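import Cfsg.Agent.KFacts.FiTT.Final

/-!
# The facts on `Fi22` for all pairs of commuting transpositions
-/

set_option autoImplicit false

namespace Cfsg.Agent.KFacts.FiTT

open Cfsg Cfsg.Agent.R01.Label
open Cfsg.Agent.R01.Fi22Facts (centMap coe_centMap)
open Cfsg.Agent.KFacts.FiTT.Cent
open Cfsg.Agent.SporRec.GF4

universe v

variable {K : Type v} [Group K]

/-- Unitary coordinates at any pair of commuting transpositions. -/
theorem Base.exists_at {T : Set K} {d : K}
    {π : Subgroup.centralizer ({d} : Set K) →* PSU 6 F4 2}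
    {lift : (Fin 6 → F4) → Subgroup.centralizer ({d} : Set K)} (B : Base K T d π lift)
    {a b : K} (ha : a ∈ T) (hb : b ∈ T) (hne : a ≠ b) (hab : a * b = b * a) :
    ∃ (π' : Subgroup.centralizer ({a} : Set K) →* PSU 6 F4 2)
      (lift' : (Fin 6 → F4) → Subgroup.centralizer ({a} : Set K)),
      Base K T a π' lift' ∧ d2 lift' = b := by
  obtain ⟨g, hga, hgb⟩ := B.trans d B.mem _ B.d2_mem a ha b hb B.ne hne B.d2_comm.symm hab
  have hT : (MulAut.conj g : K ≃* K) '' T = T := by
    ext x
    constructor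
    · rintro ⟨y, hy, rfl⟩
      exact B.conj_mem hy g
    · intro hx
      refine ⟨g⁻¹ * x * g⁻¹⁻¹, B.conj_mem hx g⁻¹, ?_⟩
      show g * (g⁻¹ * x * g⁻¹⁻¹) * g⁻¹ = x
      group
  have hB := B.map (MulAut.conj g : K ≃* K)
  rw [hT] at hB
  subst hga
  exact ⟨_, _, hB, hgb⟩

/-- **The facts at any pair of commuting transpositions.** -/
theorem Base.facts_at {T : Set K} {d : K}
    {π : Subgroup.centralizer ({d} : Set K) →* PSU 6 F4 2}
    {lift : (Fin 6 → F4) → Subgroup.centralizer ({d} : Set K)} (B : Base K T d π lift)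
    {a b : K} (ha : a ∈ T) (hb : b ∈ T) (hne : a ≠ b) (hab : a * b = b * a) :
    ∃ R : Subgroup K, Facts K a b R := by
  obtain ⟨π', lift', hB, rfl⟩ := B.exists_at ha hb hne hab
  exact ⟨_, hB.facts⟩

/-- The facts at any pair of commuting transpositions of a group isomorphic to `Fi22`. -/
theorem facts_of_iso (e : K ≃* Spor.Fi22) {a b : K} (ha : a ∈ TK e) (hb : b ∈ TK e) (hne : a ≠ b)
    (hab : a * b = b * a) : ∃ R : Subgroup K, Facts K a b R := by
  obtain ⟨d, π, lift, B⟩ := exists_base_of e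
  exact B.facts_at ha hb hne hab

end Cfsg.Agent.KFacts.FiTT
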