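import Cfsg.Agent.KFacts.FiTT.Hept

/-!
# The data of a group isomorphic to Fi22
-/

set_option autoImplicit false

namespace Cfsg.Agent.KFacts.FiTT

open Cfsg Cfsg.Agent.LieClassical.HermBasic Cfsg.Agent.ClassicalGeometry.UnitTransv
open Cfsg.Agent.R01.Lifts Cfsg.Agent.R01.Label Cfsg.Agent.R01.Start Cfsg.Agent.R01.Loc
open Cfsg.Agent.R01.Fi22Facts (centMap coe_centMap centMap_zel isThree_map)
open Cfsg.Agent.KFacts.FiTT.Cent Cfsg.Agent.KFacts.FiTT.Radical
open Cfsg.Agent.SporRec.GF4
open Cfsg.Agent.Fischer.Unit22 (hF)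

universe v w

/-- The data of `Fi22`: the class `T` of transpositions, the transposition `d` and unitary coordinates in its
centraliser. -/
structure Base (K : Type v) [Group K] (T : Set K) (d : K)
    (π : Subgroup.centralizer ({d} : Set K) →* PSU 6 F4 2)
    (lift : (Fin 6 → F4) → Subgroup.centralizer ({d} : Set K)) : Prop where
  card : Nat.card K = 64561751654400
  simple : IsSimpleGroup K
  three : IsThreeTranspositionClass T
  mem : d ∈ T
  ncard : T.ncard = 3510
  link : (Dset lift).ncard = 693
  lab : Lab hF π (zel d) (zel d) lift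
  memT : ∀ x : Subgroup.centralizer ({d} : Set K), (x : K) ∈ T ↔ x = zel d ∨ x ∈ Dset lift
  hept : Hept lift (zel d)
  trans : ∀ a ∈ T, ∀ b ∈ T, ∀ a' ∈ T, ∀ b' ∈ T, a ≠ b → a' ≠ b' → Commute a b → Commute a' b' →
    ∃ g : K, g * a * g⁻¹ = a' ∧ g * b * g⁻¹ = b'

/-- Transport along an isomorphism. -/
theorem Base.map {K : Type v} [Group K] {K' : Type w} [Group K'] {T : Set K} {d : K}
    {π : Subgroup.centralizer ({d} : Set K) →* PSU 6 F4 2}
    {lift : (Fin 6 → F4) → Subgroup.centralizer ({d} : Set K)} (B : Base K T d π lift)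
    (e : K ≃* K') : Base K' (e '' T) (e d) (π.comp (centMap e d).symm.toMonoidHom)
      (fun v => centMap e d (lift v)) where
  card := by rw [← Nat.card_congr e.toEquiv]; exact B.card
  simple := by
    have := B.simple
    exact e.symm.isSimpleGroup
  three := isThree_map e B.three
  mem := ⟨d, B.mem, rfl⟩
  ncard := by rw [Set.ncard_image_of_injective _ e.injective]; exact B.ncard
  link := by
    have h : Dset (fun v => centMap e d (lift v)) = (centMap e d) '' Dset lift := by
      ext x
      constructor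
      · rintro ⟨v, h0, hv, rfl⟩
        exact ⟨_, ⟨v, h0, hv, rfl⟩, rfl⟩
      · rintro ⟨_, ⟨v, h0, hv, rfl⟩, rfl⟩
        exact ⟨v, h0, hv, rfl⟩
    rw [h, Set.ncard_image_of_injective _ (centMap e d).injective]
    exact B.link
  lab := lab_transport B.lab (centMap e d)
  memT := by
    intro x
    obtain ⟨x, rfl⟩ := (centMap e d).surjective x
    have h1 : ((centMap e d x : Subgroup.centralizer ({e d} : Set K')) : K') ∈ e '' T ↔
        (x : K) ∈ T := by
      rw [coe_centMap]
      constructor
      · rintro ⟨y, hy, hxy⟩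
        rwa [← e.injective hxy]
      · intro h
        exact ⟨_, h, rfl⟩
    rw [h1, B.memT, mem_Dset_transport, ← centMap_zel, (centMap e d).injective.eq_iff]
  hept := by
    obtain ⟨a, b, c, ha, hb, hc, h⟩ := B.hept
    refine ⟨a, b, c, ha, hb, hc, ?_⟩
    rw [← map_mul, ← map_mul, ← map_mul, ← map_mul, ← map_mul, h, centMap_zel]
  trans := by
    rintro _ ⟨a, ha, rfl⟩ _ ⟨b, hb, rfl⟩ _ ⟨a', ha', rfl⟩ _ ⟨b', hb', rfl⟩ h h' hc hc'
    have key : ∀ {x y : K}, Commute (e x) (e y) → Commute x y := by
      intro x y hxy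
      apply e.injective
      rw [map_mul, map_mul]
      exact hxy
    obtain ⟨g, h1, h2⟩ := B.trans a ha b hb a' ha' b' hb' (fun h0 => h (by rw [h0]))
      (fun h0 => h' (by rw [h0])) (key hc) (key hc')
    exact ⟨e g, by rw [← h1, map_mul, map_mul, map_inv], by rw [← h2, map_mul, map_mul, map_inv]⟩

/-! ### The group on 3510 points -/

section G22

open Cfsg.Agent.Fischer Cfsg.Agent.Fischer.Abstract Cfsg.Agent.Fischer.Centralizer
  Cfsg.Agent.Fischer.Group22 Cfsg.Agent.Fischer.Rank22 Cfsg.Agent.Fischer.Unit22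
open Cfsg.Agent.R01.Fi22Loc

theorem card_Link : Nat.card (Link R) = 693 := by
  have e : Fin 693 ≃ Link R :=
    { toFun := fun i => mkLink (2817 + i.1) (by omega) (by omega)
      invFun := fun y => ⟨(y.1 : X).1 - 2817, by
        have h1 := link_ge y
        have h2 := link_lt y
        omega⟩
      left_inv := fun i => by
        apply Fin.ext
        show (2817 + i.1) - 2817 = i.1
        omega
      right_inv := fun y => by
        apply link_ext
        have h1 := link_ge y
        show 2817 + ((y.1 : X).1 - 2817) = (y.1 : X).1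
        omega }
  rw [← Nat.card_congr e, Nat.card_fin]

theorem card_G22 : Nat.card G = 64561751654400 := by
  rw [← Cfsg.Agent.R01.Fi22Facts.card]
  exact Nat.card_congr Cfsg.Agent.R01.Fi22Facts.E.toEquiv

theorem τ_injective : Function.Injective (τ : Link R → C R) := by
  intro x y h
  have h1 : R.t x.1 = R.t y.1 := congrArg Subtype.val h
  exact Subtype.ext (R.t_injective h1)

theorem exists_base_D : ∃ (d : G)
    (π : Subgroup.centralizer ({d} : Set G) →* PSU 6 F4 2)
    (lift : (Fin 6 → F4) → Subgroup.centralizer ({d} : Set G)),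
    Base G Cfsg.Agent.R01.Fi22Loc.D d π lift := by
  obtain ⟨lift, L, hl, H⟩ := Hept.exists_lift
  refine ⟨R.t R.x0, Cfsg.Agent.R01.Fi22Loc.π, lift, ?_⟩
  exact
    { card := card_G22
      simple := Even22.isSimpleGroup
      three := Even22.isThreeTranspositionClass
      mem := ⟨R.x0, rfl⟩
      ncard := Even22.card_D
      link := by
        rw [Dset_eq L hl, ← Set.image_univ, Set.ncard_image_of_injective _ τ_injective,
          Set.ncard_univ, card_Link]
      lab := L
      memT := fun x => by rw [Dset_eq L hl]; exact mem_D_iff x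
      hept := H
      trans := by
        rintro _ ⟨x, rfl⟩ _ ⟨y, rfl⟩ _ ⟨x', rfl⟩ _ ⟨y', rfl⟩ h h' hc hc'
        obtain ⟨k, hk, hk'⟩ := Cfsg.Agent.R01.Fi22Facts.trans_com (x := x) (y := y) (x' := x')
          (y' := y') hc (fun h0 => h (by rw [h0])) hc' (fun h0 => h' (by rw [h0]))
        exact ⟨k, by rw [← R.map_smul, hk], by rw [← R.map_smul, hk']⟩ }

end G22

/-- The class of transpositions of a group isomorphic to `Fi22`. -/
def TK {K : Type v} [Group K] (e : K ≃* Spor.Fi22) : Set K := e.symm '' Cfsg.Agent.R01.Fi22Facts.T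

/-- **Every group isomorphic to `Fi22` has the data**, with the class `TK e`. -/
theorem exists_base_of {K : Type v} [Group K] (e : K ≃* Spor.Fi22) :
    ∃ (d : K) (π : Subgroup.centralizer ({d} : Set K) →* PSU 6 F4 2)
      (lift : (Fin 6 → F4) → Subgroup.centralizer ({d} : Set K)), Base K (TK e) d π lift := by
  obtain ⟨d, π, lift, B⟩ := exists_base_D
  have h : (Cfsg.Agent.R01.Fi22Facts.E.trans e.symm) '' Cfsg.Agent.R01.Fi22Loc.D = TK e := by
    rw [TK, ← Cfsg.Agent.R01.Fi22Facts.image_D, Set.image_image]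
    rfl
  have hB := B.map (Cfsg.Agent.R01.Fi22Facts.E.trans e.symm)
  rw [h] at hB
  exact ⟨_, _, _, hB⟩

/-- **Every group isomorphic to `Fi22` has the data.** -/
theorem exists_base {K : Type v} [Group K] (h : Nonempty (K ≃* Spor.Fi22)) :
    ∃ (T : Set K) (d : K) (π : Subgroup.centralizer ({d} : Set K) →* PSU 6 F4 2)
      (lift : (Fin 6 → F4) → Subgroup.centralizer ({d} : Set K)), Base K T d π lift := by
  obtain ⟨e⟩ := h
  exact ⟨_, exists_base_of e⟩

end Cfsg.Agent.KFacts.FiTT
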