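import Cfsg.Agent.KFacts.FiTT.Levi
import Cfsg.Agent.R01.Label

/-!
# The centraliser of two commuting transpositions: unitary coordinates

`C` is a double cover of `PSU 6 F 2` with labelled transpositions `lift v`; `P0` is the centraliser of
`lift u0` in `C`, `lv : P0 → SU 4 F 2` the Levi projection with kernel `Rad`.
-/

set_option autoImplicit false
set_option linter.unusedSectionVars false

namespace Cfsg.Agent.KFacts.FiTT.Cent

open Cfsg Cfsg.Agent.LieClassical.HermBasic Cfsg.Agent.ClassicalGeometry.UnitTransv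
open Cfsg.Agent.SporadicStructure.UnitTwo Cfsg.Agent.R01.PSUSix
open Cfsg.Agent.ClassicalGeometry.UnitAutBasic (tau pr pr_surjective exists_scalar_of_pr_eq)
open Cfsg.Agent.R01.Lifts Cfsg.Agent.R01.Label
open Cfsg.Agent.KFacts.FiTT.Levi

variable {C : Type*} [Group C] {F : Type*} [Field F] [Fintype F] {hF : Fintype.card F = 2 ^ 2}
  {π : C →* PSU 6 F 2} {z : C} {lift : (Fin 6 → F) → C}

/-- the base vector -/
abbrev u : Fin 6 → F := u0 F 4

theorem hu (hF : Fintype.card F = 2 ^ 2) : hermForm 6 F 2 (u : Fin 6 → F) u = 0 := herm_u0 (m := 4) hF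

theorem u_ne (hF : Fintype.card F = 2 ^ 2) : (u : Fin 6 → F) ≠ 0 := u0_ne_zero (m := 4) hF

/-- `w` is an isotropic vector orthogonal to `u` which is not a multiple of `u` -/
structure Adm (w : Fin 6 → F) : Prop where
  iso : hermForm 6 F 2 w w = 0
  perp : hermForm 6 F 2 w u = 0
  indep : ¬ ∃ c : F, w = c • u

namespace Adm

theorem ne {w : Fin 6 → F} (h : Adm w) : w ≠ 0 := fun h0 => h.indep ⟨0, by rw [h0, zero_smul]⟩

theorem add (hF : Fintype.card F = 2 ^ 2) {w : Fin 6 → F} (h : Adm w) (c : F) :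
    Adm (w + c • u) where
  iso := iso_add (m := 4) hF h.iso h.perp c
  perp := perp_add (m := 4) hF h.perp c
  indep := by
    rintro ⟨k, hk⟩
    apply h.indep
    refine ⟨k - c, ?_⟩
    rw [sub_smul, ← hk, add_sub_cancel_right]

theorem smul {w : Fin 6 → F} (h : Adm w) {c : F} (hc : c ≠ 0) : Adm (c • w) where
  iso := by rw [herm_smul_left, herm_smul_right, h.iso, mul_zero, mul_zero]
  perp := by rw [herm_smul_left, h.perp, mul_zero]
  indep := by
    rintro ⟨k, hk⟩
    apply h.indep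
    refine ⟨c⁻¹ * k, ?_⟩
    rw [mul_smul, ← hk, smul_smul, inv_mul_cancel₀ hc, one_smul]

theorem map (hF : Fintype.card F = 2 ^ 2) {w : Fin 6 → F} (h : Adm w) {g : SU 6 F 2} {k : F}
    (hk : k ≠ 0) (hg : act g u = k • u) : Adm (act g w) where
  iso := by rw [herm_act, h.iso]
  perp := by
    have h1 : hermForm 6 F 2 (act g w) (act g u) = 0 := by
      rw [herm_act, h.perp]
    rw [hg, herm_smul_right] at h1
    exact (mul_eq_zero.1 h1).resolve_left (pow_ne_zero _ hk)
  indep := by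
    rintro ⟨c, hc⟩
    apply h.indep
    refine ⟨c * k⁻¹, ?_⟩
    apply act_injective g
    rw [hc, act_smul, hg, smul_smul, mul_assoc, inv_mul_cancel₀ hk, mul_one]

end Adm

/-- the centraliser of `lift u` -/
def P0 (lift : (Fin 6 → F) → C) : Subgroup C := Subgroup.centralizer ({lift u} : Set C)

theorem mem_P0 {c : C} : c ∈ P0 lift ↔ c * lift u = lift u * c :=
  Subgroup.mem_centralizer_singleton_iff

variable (L : Lab hF π z z lift)
include L

theorem exists_stab {c : C} (hc : c ∈ P0 lift) :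
    ∃ g : SU 6 F 2, g ∈ Stab F 4 ∧ pr 6 F 2 g = π c := by
  obtain ⟨g, hg⟩ := pr_surjective (π c)
  have huu := hu (F := F) hF
  have hu0 := u_ne (F := F) hF
  have h1 : lift (u : Fin 6 → F) = lift (act g u) := by
    rw [← L.conj c g u hg.symm hu0 huu, mem_P0.1 hc, mul_inv_cancel_right]
  obtain ⟨k, hk0, hk⟩ := (L.lift_eq_iff huu (by rw [herm_act, huu]) hu0
    (Lab.act_ne_zero hu0)).1 h1
  have hk3 : k⁻¹ ^ 3 = 1 := pow_three hF (inv_ne_zero hk0)
  set s : SU 6 F 2 := Cfsg.Agent.LieClassical.SUBasic.suScalar 2 k⁻¹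
    (by rw [show (6 : ℕ) = 3 * 2 from rfl, pow_mul, hk3, one_pow]) hk3 with hs
  have hsact : ∀ v : Fin 6 → F, act s v = k⁻¹ • v := by
    intro v
    rw [act_def, hs, Cfsg.Agent.LieClassical.SUBasic.coe_suScalar]
    funext i
    rw [Matrix.mulVec_diagonal]
    rfl
  have hsc : s ∈ Subgroup.center (SU 6 F 2) :=
    Cfsg.Agent.LieClassical.SUBasic.suScalar_mem_center _ _ _ _
  have hprs : pr 6 F 2 s = 1 := (QuotientGroup.eq_one_iff s).2 hsc
  refine ⟨s * g, ?_, by rw [map_mul, hprs, one_mul, hg]⟩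
  rw [mem_Stab, act_mul, hk, hsact, smul_smul, inv_mul_cancel₀ hk0, one_smul]

omit L in
theorem stab_unique (hF : Fintype.card F = 2 ^ 2) {g g' : SU 6 F 2} (hg : g ∈ Stab F 4)
    (hg' : g' ∈ Stab F 4) (h : pr 6 F 2 g = pr 6 F 2 g') : g = g' := by
  obtain ⟨c, -, hc'⟩ := exists_scalar_of_pr_eq hF (by norm_num) h
  have hc : ∀ x : Fin 6 → F, act g' x = c • act g x := hc'
  have h1 := hc u
  rw [mem_Stab.1 hg, mem_Stab.1 hg'] at h1
  have h2 : (1 - c) • (u : Fin 6 → F) = 0 := by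
    rw [sub_smul, one_smul, ← h1, sub_self]
  have h3 : c = 1 := by
    rcases smul_eq_zero.1 h2 with h | h
    · linear_combination -h
    · exact absurd h (u_ne hF)
  apply ext_act
  intro x
  rw [hc x, h3, one_smul]

/-- the representative in the stabiliser of `u` -/
noncomputable def st : P0 lift →* Stab F 4 where
  toFun c := ⟨(exists_stab L c.2).choose, (exists_stab L c.2).choose_spec.1⟩
  map_one' := by
    apply Subtype.ext
    apply stab_unique hF (exists_stab L (one_mem (P0 lift))).choose_spec.1 (one_mem _)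
    rw [(exists_stab L (one_mem (P0 lift))).choose_spec.2, map_one, map_one]
  map_mul' a b := by
    apply Subtype.ext
    apply stab_unique hF (exists_stab L (mul_mem a.2 b.2)).choose_spec.1
      (mul_mem (exists_stab L a.2).choose_spec.1 (exists_stab L b.2).choose_spec.1)
    rw [(exists_stab L (mul_mem a.2 b.2)).choose_spec.2, map_mul, map_mul,
      (exists_stab L a.2).choose_spec.2, (exists_stab L b.2).choose_spec.2]

theorem pr_st (c : P0 lift) : pr 6 F 2 (st L c : SU 6 F 2) = π c :=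
  (exists_stab L c.2).choose_spec.2

theorem st_eq {c : P0 lift} {g : SU 6 F 2} (hg : g ∈ Stab F 4) (h : π c = pr 6 F 2 g) :
    st L c = ⟨g, hg⟩ := by
  apply Subtype.ext
  exact stab_unique hF (st L c).2 hg (by rw [pr_st, h])

theorem st_surjective : Function.Surjective (st L) := by
  rintro ⟨g, hg⟩
  obtain ⟨c, hc⟩ := L.ext.surj (pr 6 F 2 g)
  have hcP : c ∈ P0 lift := by
    rw [mem_P0, ← mul_inv_eq_iff_eq_mul, L.conj c g u hc (u_ne hF) (hu hF), mem_Stab.1 hg]
  exact ⟨⟨c, hcP⟩, st_eq L hg hc⟩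

theorem st_eq_one_iff (c : P0 lift) : st L c = 1 ↔ (c : C) = 1 ∨ (c : C) = z := by
  rw [← L.ext.ker]
  constructor
  · intro h
    rw [← pr_st L, h]
    exact map_one _
  · intro h
    exact st_eq L (one_mem _) (by rw [h, map_one])

theorem act_st (c : P0 lift) : act (st L c : SU 6 F 2) (u : Fin 6 → F) = u := (st L c).2

/-- conjugation of the transpositions by `P0` -/
theorem conj_lift (c : P0 lift) {w : Fin 6 → F} (h0 : w ≠ 0) (hw : hermForm 6 F 2 w w = 0) :
    (c : C) * lift w * (c : C)⁻¹ = lift (act (st L c : SU 6 F 2) w) :=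
  L.conj c _ w (pr_st L c).symm h0 hw

theorem lift_mem {w : Fin 6 → F} (h0 : w ≠ 0) (hw : hermForm 6 F 2 w w = 0)
    (hwu : hermForm 6 F 2 w u = 0) : lift w ∈ P0 lift := by
  rw [mem_P0]
  exact (L.commute_iff hw (hu hF) h0 (u_ne hF)).2 hwu

theorem st_lift {w : Fin 6 → F} (h0 : w ≠ 0) (hw : hermForm 6 F 2 w w = 0)
    (hwu : hermForm 6 F 2 w u = 0) :
    st L ⟨lift w, lift_mem L h0 hw hwu⟩ = ⟨T hF w hw, T_mem_Stab (m := 4) hF hw hwu⟩ :=
  st_eq L _ (by rw [← tau_eq_pr hF hw]; exact L.map w h0 hw)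

theorem z_mem : z ∈ P0 lift := by
  rw [mem_P0]
  exact (L.ext.comm _).symm

/-! ### The Levi projection -/

/-- the Levi projection -/
noncomputable def lv : P0 lift →* SU 4 F 2 := (lev (m := 4) hF (le_refl 4)).comp (st L)

theorem lv_apply (c : P0 lift) : lv L c = lev (m := 4) hF (le_refl 4) (st L c) := rfl

theorem lv_surjective : Function.Surjective (lv L) :=
  (lev_surjective (m := 4) hF (le_refl 4)).comp (st_surjective L)

theorem lv_lift {w : Fin 6 → F} (h0 : w ≠ 0) (hw : hermForm 6 F 2 w w = 0)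
    (hwu : hermForm 6 F 2 w u = 0) :
    lv L ⟨lift w, lift_mem L h0 hw hwu⟩ =
      T hF (top (m := 4) w) (top_iso (m := 4) hF hw hwu) := by
  rw [lv_apply, st_lift L h0 hw hwu]
  exact lev_T (m := 4) hF (le_refl 4) hw hwu

/-! ### The radical -/

omit L in
/-- The radical: generated by the products of two transpositions in the same block. -/
def Rad (lift : (Fin 6 → F) → C) : Subgroup C :=
  Subgroup.closure {x | ∃ (w : Fin 6 → F) (c : F), w ≠ 0 ∧ w + c • u ≠ 0 ∧
    hermForm 6 F 2 w w = 0 ∧ hermForm 6 F 2 w u = 0 ∧ x = lift w * lift (w + c • u)}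

omit L in
theorem pair_mem_Rad {w : Fin 6 → F} (h : Adm w) {w' : Fin 6 → F} {c : F} (hw' : w' = w + c • u)
    (h0 : w' ≠ 0) : lift w * lift w' ∈ Rad lift := by
  subst hw'
  exact Subgroup.subset_closure ⟨w, c, h.ne, h0, h.iso, h.perp, rfl⟩

theorem Rad_le : Rad lift ≤ P0 lift := by
  unfold Rad
  rw [Subgroup.closure_le]
  rintro x ⟨w, c, h0, h0', hw, hwu, rfl⟩
  exact mul_mem (lift_mem L h0 hw hwu)
    (lift_mem L h0' (iso_add (m := 4) hF hw hwu c) (perp_add (m := 4) hF hwu c))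

theorem conj_mem_Rad {c x : C} (hc : c ∈ P0 lift) (hx : x ∈ Rad lift) : c * x * c⁻¹ ∈ Rad lift := by
  refine Subgroup.closure_induction (p := fun x _ => c * x * c⁻¹ ∈ Rad lift) ?_ ?_ ?_ ?_ hx
  · rintro x ⟨w, k, h0, h0', hw, hwu, rfl⟩
    have h1 : c * (lift w * lift (w + k • u)) * c⁻¹ =
        (c * lift w * c⁻¹) * (c * lift (w + k • u) * c⁻¹) := by group
    rw [h1, conj_lift L ⟨c, hc⟩ h0 hw, conj_lift L ⟨c, hc⟩ h0' (iso_add (m := 4) hF hw hwu k),
      act_add, act_smul, act_st]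
    refine Subgroup.subset_closure ⟨_, k, Lab.act_ne_zero h0, ?_, by rw [herm_act, hw], ?_, rfl⟩
    · have := Lab.act_ne_zero (g := (st L ⟨c, hc⟩ : SU 6 F 2)) h0'
      rwa [act_add, act_smul, act_st] at this
    · exact act_perp (m := 4) hF (st L ⟨c, hc⟩).2 hwu
  · rw [mul_one, mul_inv_cancel]; exact one_mem _
  · intro a b _ _ ha hb
    have : c * (a * b) * c⁻¹ = (c * a * c⁻¹) * (c * b * c⁻¹) := by group
    rw [this]
    exact mul_mem ha hb
  · intro a _ ha
    have : c * a⁻¹ * c⁻¹ = (c * a * c⁻¹)⁻¹ := by group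
    rw [this]
    exact inv_mem ha

theorem lv_of_mem_Rad {c : P0 lift} (hc : (c : C) ∈ Rad lift) : lv L c = 1 := by
  have key : ∀ x ∈ Rad lift, ∀ hx : x ∈ P0 lift, lv L ⟨x, hx⟩ = 1 := by
    intro x hx
    refine Subgroup.closure_induction (p := fun x _ => ∀ hx : x ∈ P0 lift, lv L ⟨x, hx⟩ = 1)
      ?_ ?_ ?_ ?_ hx
    · rintro x ⟨w, k, h0, h0', hw, hwu, rfl⟩ hx
      have hw' := iso_add (m := 4) hF hw hwu k
      have hwu' := perp_add (m := 4) hF hwu k
      have h1 : (⟨lift w * lift (w + k • u), hx⟩ : P0 lift) =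
          ⟨lift w, lift_mem L h0 hw hwu⟩ * ⟨lift (w + k • u), lift_mem L h0' hw' hwu'⟩ := rfl
      rw [h1, map_mul, lv_lift L h0 hw hwu, lv_lift L h0' hw' hwu']
      have h2 : top (m := 4) (w + k • u) = top (m := 4) w := by
        rw [Levi.top_add, Levi.top_smul, top_u0, smul_zero, add_zero]
      have h3 : T hF (top (m := 4) (w + k • u)) (top_iso (m := 4) hF hw' hwu') =
          T hF (top (m := 4) w) (top_iso (m := 4) hF hw hwu) := by
        apply ext_act
        intro x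
        rw [act_T, act_T, h2]
      rw [h3, T_mul_self]
    · intro hx
      exact map_one _
    · intro a b ha hb ha' hb' hx
      have h1 : (⟨a * b, hx⟩ : P0 lift) = ⟨a, Rad_le L ha⟩ * ⟨b, Rad_le L hb⟩ := rfl
      rw [h1, map_mul, ha', hb', mul_one]
    · intro a ha ha' hx
      have h1 : (⟨a⁻¹, hx⟩ : P0 lift) = (⟨a, Rad_le L ha⟩)⁻¹ := rfl
      rw [h1, map_inv, ha', inv_one]
  exact key c hc c.2

/-- every element of `Q` lifts to the radical -/
theorem exists_lift_Q {r : SU 6 F 2} (hr : r ∈ Q F 4 hF) : ∃ x ∈ Rad lift, π x = pr 6 F 2 r := by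
  refine Subgroup.closure_induction (p := fun r _ => ∃ x ∈ Rad lift, π x = pr 6 F 2 r)
    ?_ ?_ ?_ ?_ hr
  · rintro r ⟨w, hw, hwu, c, h0, h0', rfl⟩
    refine ⟨lift w * lift (w + c • u), Subgroup.subset_closure ⟨w, c, h0, h0', hw, hwu, rfl⟩, ?_⟩
    have hw' := iso_add (m := 4) hF hw hwu c
    rw [map_mul, L.map w h0 hw, L.map _ h0' hw', tau_eq_pr hF hw, tau_eq_pr hF hw', ← map_mul]
  · exact ⟨1, one_mem _, by rw [map_one, map_one]⟩
  · rintro a b _ _ ⟨x, hx, hxa⟩ ⟨y, hy, hyb⟩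
    exact ⟨x * y, mul_mem hx hy, by rw [map_mul, map_mul, hxa, hyb]⟩
  · rintro a _ ⟨x, hx, hxa⟩
    exact ⟨x⁻¹, inv_mem hx, by rw [map_inv, map_inv, hxa]⟩

/-- the line through `u` and `w` -/
theorem line_eq {w : Fin 6 → F} (hw : Adm w) {ω : F} (hω : ω ^ 2 + ω + 1 = 0) :
    lift u * (lift w * lift (w + (1 : F) • u)) *
      (lift (w + ω • u) * lift (w + ω ^ 2 • u)) = z := by
  have h1 := L.line u w (u_ne hF) hw.ne (hu hF) hw.iso (herm_eq_zero_swap hF hw.perp) hw.indep ω hω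
  rw [one_smul, add_comm w u, add_comm w (ω • u), add_comm w (ω ^ 2 • u), ← h1]
  group

/-- **The radical is the kernel.** Needs `z` in the radical. -/
theorem mem_Rad_of_lv (hz : z ∈ Rad lift) (hu' : lift u ∈ Rad lift) {c : P0 lift}
    (hc : lv L c = 1) : (c : C) ∈ Rad lift := by
  obtain ⟨r, hr, h⟩ := exists_mem_Q_of_lev (m := 4) hF (le_refl 4) hc
  obtain ⟨x, hx, hxr⟩ := exists_lift_Q L hr
  rcases h with h | h
  · have h1 : π (c : C) = π x := by rw [hxr, ← h, pr_st]
    rcases L.ext.map_eq.1 h1 with h2 | h2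
    · rw [h2]; exact hx
    · rw [h2]; exact mul_mem hx hz
  · have h1 : π (c : C) = π (x * lift u) := by
      rw [map_mul, hxr, L.map u (u_ne hF) (hu hF), tau_eq_pr hF (hu hF), ← map_mul]
      have h3 : r * T hF u (hu hF) = (st L c : SU 6 F 2) := h.symm
      rw [h3, pr_st]
    rcases L.ext.map_eq.1 h1 with h2 | h2
    · rw [h2]; exact mul_mem hx hu'
    · rw [h2]; exact mul_mem (mul_mem hx hu') hz

end Cfsg.Agent.KFacts.FiTT.Cent
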