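import Mathlib
import Cfsg.Prelude.Def_CaseTheorems
import Cfsg.Prelude.Def_Classical

/-!
# The facts on `K = Fi22`

`d`, `d'` are two commuting 3-transpositions, `z = d d'`, `R = O_2(C_K(d, d'))`.
-/

set_option autoImplicit false

namespace Cfsg.Agent.KFacts.FiTT

open Subgroup Cfsg

universe v

/-- The facts on `Fi22`. -/
structure Facts (K : Type v) [Group K] (d d' : K) (R : Subgroup K) : Prop where
  card : Nat.card K = 64561751654400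
  dd : d * d = 1
  dd' : d' * d' = 1
  d_ne : d ≠ 1
  d'_ne : d' ≠ 1
  ne : d ≠ d'
  comm : d * d' = d' * d
  /-- an element interchanging `d` and `d'` -/
  swap : ∃ p : K, p * d * p⁻¹ = d' ∧ p * d' * p⁻¹ = d
  /-- `C_K(d)` is quasisimple -/
  quasi : IsQuasisimple ↥(centralizer ({d} : Set K))
  /-- `C_K(d) / ⟨d⟩` is `U6(2)` -/
  quo : ∃ (F : Type) (_ : Field F) (_ : Fintype F), Fintype.card F = 4 ∧
    Nonempty (↥(centralizer ({d} : Set K)) ⧸ center ↥(centralizer ({d} : Set K)) ≃* PSU 6 F 2)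
  /-- `C_K(C_K(d)) = ⟨d⟩` -/
  cc : ∀ x : K, (∀ y, y * d = d * y → x * y = y * x) → x = 1 ∨ x = d
  /-- `C_K(z) = C_K(d, d') ∪ p C_K(d, d')` -/
  cz : ∀ x : K, x * (d * d') = d * d' * x → (x * d = d * x ∧ x * d' = d' * x) ∨
    (x * d * x⁻¹ = d' ∧ x * d' * x⁻¹ = d)
  /-- `C_K(d, d')` is perfect -/
  perfect : commutator ↥(centralizer ({d, d'} : Set K)) = ⊤
  /-- `C_K(C_K(d, d')) = ⟨d, d'⟩` -/
  czP : ∀ x : K, (∀ y, y * d = d * y → y * d' = d' * y → x * y = y * x) →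
    x = 1 ∨ x = d ∨ x = d' ∨ x = d * d'
  R_le : R ≤ centralizer ({d, d'} : Set K)
  d_mem : d ∈ R
  d'_mem : d' ∈ R
  R_two : IsPGroup 2 ↥R
  R_card : Nat.card ↥R = 2 ^ 10
  /-- `R' = ⟨z⟩` -/
  R_comm : ∀ x ∈ R, ∀ y ∈ R, x * y * x⁻¹ * y⁻¹ = 1 ∨ x * y * x⁻¹ * y⁻¹ = d * d'
  R_sq : ∀ x ∈ R, x * x = 1 ∨ x * x = d * d'
  R_nonab : ∃ x ∈ R, ∃ y ∈ R, x * y * x⁻¹ * y⁻¹ = d * d'
  /-- `R` is normal in `C_K(z)` -/
  R_normal : ∀ g : K, g * (d * d') = d * d' * g → ∀ x ∈ R, g * x * g⁻¹ ∈ R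
  /-- `Z(R) = ⟨d, d'⟩` -/
  R_center : ∀ x : K, (∀ y ∈ R, x * y = y * x) → x = 1 ∨ x = d ∨ x = d' ∨ x = d * d'
  /-- the `C_K(d, d')`-invariant subgroups of `R` -/
  dich : ∀ N : Subgroup K, N ≤ R →
    (∀ g, g * d = d * g → g * d' = d' * g → ∀ x ∈ N, g * x * g⁻¹ ∈ N) →
    N = R ∨ ∀ x ∈ N, x = 1 ∨ x = d ∨ x = d' ∨ x = d * d'
  /-- `R = O_2(C_K(d, d'))` -/
  O2 : ∀ N : Subgroup K, N ≤ centralizer ({d, d'} : Set K) →
    (∀ g, g * d = d * g → g * d' = d' * g → ∀ x ∈ N, g * x * g⁻¹ ∈ N) → IsPGroup 2 ↥N → N ≤ R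
  /-- `C_K(d, d') / R` is `U4(2)` -/
  quoR : ∃ (F : Type) (_ : Field F) (_ : Fintype F), Fintype.card F = 4 ∧
    ∃ f : ↥(centralizer ({d, d'} : Set K)) →* PSU 4 F 2, Function.Surjective f ∧
      ∀ x, f x = 1 ↔ (x : K) ∈ R
  /-- `C_K(z)` contains a Sylow 2-subgroup -/
  odd : Odd (centralizer ({d * d'} : Set K)).index
  /-- `Z(S) = ⟨z⟩` for every Sylow 2-subgroup `S` of `K` in `C_K(z)` -/
  center_S : ∀ S : Sylow 2 K, (S : Subgroup K) ≤ centralizer ({d * d'} : Set K) →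
    ∀ x ∈ S, (∀ y ∈ S, x * y = y * x) → x = 1 ∨ x = d * d'

/-- `K` has the facts of `Fi22`. -/
def Has (K : Type v) [Group K] : Prop := ∃ (d d' : K) (R : Subgroup K), Facts K d d' R

end Cfsg.Agent.KFacts.FiTT
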