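import Cfsg.Agent.KFacts.FiTT.Base

/-!
# Fi22: the centralisers of a transposition and of a product of two commuting transpositions
-/

set_option autoImplicit false
set_option linter.unusedSectionVars false

namespace Cfsg.Agent.KFacts.FiTT

open Cfsg Cfsg.Agent.LieClassical.HermBasic Cfsg.Agent.ClassicalGeometry.UnitTransv
open Cfsg.Agent.SporadicStructure.UnitTwo (exists_omega two_eq_zero)
open Cfsg.Agent.R01.Lifts Cfsg.Agent.R01.Label Cfsg.Agent.R01.Start
open Cfsg.Agent.KFacts.FiTT.Cent Cfsg.Agent.KFacts.FiTT.Radical Cfsg.Agent.KFacts.FiTT.Levi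
open Cfsg.Agent.SporRec.GF4
open Cfsg.Agent.Fischer.Unit22 (hF)
open scoped commutatorElement

universe v

variable {K : Type v} [Group K] {T : Set K} {d : K}
  {π : Subgroup.centralizer ({d} : Set K) →* PSU 6 F4 2}
  {lift : (Fin 6 → F4) → Subgroup.centralizer ({d} : Set K)}

/-- the second transposition -/
def d2 (lift : (Fin 6 → F4) → Subgroup.centralizer ({d} : Set K)) : K := (lift u : K)

theorem comm_d (x : Subgroup.centralizer ({d} : Set K)) : (x : K) * d = d * x :=
  Subgroup.mem_centralizer_singleton_iff.1 x.2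

namespace Base

variable (B : Base K T d π lift)
include B

theorem finite : Finite K := Nat.finite_of_card_ne_zero (by rw [B.card]; norm_num)

theorem dd : d * d = 1 := congrArg Subtype.val B.lab.ext.zz

theorem d_ne : d ≠ 1 := fun h => B.lab.ext.zne (Subtype.ext h)

theorem d2_sq : d2 lift * d2 lift = 1 := congrArg Subtype.val (uu B.lab)

theorem d2_comm : d2 lift * d = d * d2 lift := comm_d _

theorem d2_ne_one : d2 lift ≠ 1 := fun h =>
  B.lab.lift_ne_one (u_ne hF) (hu hF) (Subtype.ext h)

theorem ne : d ≠ d2 lift := fun h =>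
  B.lab.z_notMem ⟨u, u_ne hF, hu hF, Subtype.ext h⟩

theorem lift_mem_T {w : Fin 6 → F4} (h0 : w ≠ 0) (hw : hermForm 6 F4 2 w w = 0) :
    ((lift w : Subgroup.centralizer ({d} : Set K)) : K) ∈ T :=
  (B.memT _).2 (Or.inr ⟨w, h0, hw, rfl⟩)

theorem d2_mem : d2 lift ∈ T := B.lift_mem_T (u_ne hF) (hu hF)

theorem conj_mem {x : K} (hx : x ∈ T) (g : K) : g * x * g⁻¹ ∈ T := by
  obtain ⟨-, ⟨t, ht, hT⟩, -⟩ := B.three
  rw [hT] at hx ⊢
  obtain ⟨c, hc⟩ := isConj_iff.1 (show IsConj t x from hx)
  exact isConj_iff.2 ⟨g * c, by rw [← hc]; group⟩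

theorem sq {x : K} (hx : x ∈ T) : x * x = 1 := by
  have := B.three.1.1 x hx
  rw [← pow_two, ← this, pow_orderOf_eq_one]

theorem inv {x : K} (hx : x ∈ T) : x⁻¹ = x := inv_eq_of_mul_eq_one_left (B.sq hx)

/-- either commuting or braided -/
theorem braid {x y : K} (hx : x ∈ T) (hy : y ∈ T) : x * y = y * x ∨ x * y * x = y * x * y := by
  rcases B.three.1.2 x hx y hy with h | h
  · left
    rw [pow_two] at h
    have h1 : x * y = (x * y)⁻¹ := eq_inv_of_mul_eq_one_left h
    rw [mul_inv_rev, B.inv hx, B.inv hy] at h1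
    exact h1
  · right
    have h1 : x * y * x * (y * x * y) = 1 := by
      rw [← h, pow_succ, pow_two]; group
    have h2 := eq_inv_of_mul_eq_one_left h1
    rw [h2, mul_inv_rev, mul_inv_rev, B.inv hx, B.inv hy]
    group

/-- a transposition commuting with `d` and `d2` and different from both is a labelled one -/
theorem exists_adm {a : K} (ha : a ∈ T) (h1 : a * d = d * a) (h2 : a * d2 lift = d2 lift * a)
    (hne : a ≠ d) (hne2 : a ≠ d2 lift) :
    ∃ w : Fin 6 → F4, Adm w ∧ a = (lift w : Subgroup.centralizer ({d} : Set K)) := by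
  have haC : a ∈ Subgroup.centralizer ({d} : Set K) :=
    Subgroup.mem_centralizer_singleton_iff.2 h1
  rcases (B.memT ⟨a, haC⟩).1 ha with h | ⟨w, hw0, hw, h⟩
  · exact absurd (congrArg Subtype.val h) hne
  · have ha' : a = (lift w : Subgroup.centralizer ({d} : Set K)) := congrArg Subtype.val h
    refine ⟨w, ⟨hw, ?_, ?_⟩, ha'⟩
    · rw [← B.lab.commute_iff hw (hu hF) hw0 (u_ne hF)]
      apply Subtype.ext
      show ((lift w : Subgroup.centralizer ({d} : Set K)) : K) * d2 lift = d2 lift * _
      rw [← ha', h2]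
    · rintro ⟨c, rfl⟩
      apply hne2
      rw [ha', d2, B.lab.smul u c (hu hF)]
      rintro rfl
      exact hw0 (zero_smul _ _)

/-- a transposition commuting with `d`, `d2` and not with a given third one -/
theorem exists_link {w : Fin 6 → F4} (hw : Adm w) : ∃ e ∈ T, e * d = d * e ∧
    e * d2 lift = d2 lift * e ∧
    e * (lift w : Subgroup.centralizer ({d} : Set K)) ≠
      (lift w : Subgroup.centralizer ({d} : Set K)) * e := by
  obtain ⟨ω, hω⟩ := exists_omega hF
  have hω0 : ω ≠ 0 := by
    rintro rfl
    simp at hω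
  have ha := adm_a hF
  have hb : Adm (ι (eb ω) : Fin 6 → F4) := adm_ι hF (eb_ne hω0) (herm_eb hF hω)
  obtain ⟨g, hg, hgw⟩ := exists_conj B.lab ha hw
  have hgd2 := mem_P0.1 hg
  refine ⟨g * lift (ι (eb ω)) * g⁻¹, B.conj_mem (B.lift_mem_T hb.ne hb.iso) g, ?_, ?_, ?_⟩
  · have h1 := comm_d (g * lift (ι (eb ω)) * g⁻¹)
    exact h1
  · have h1 : g * lift (ι (eb ω)) * g⁻¹ ∈ P0 lift :=
      mul_mem (mul_mem hg (lift_mem B.lab hb.ne hb.iso hb.perp)) (inv_mem hg)
    exact congrArg Subtype.val (mem_P0.1 h1)
  · intro h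
    have h1 : (g * lift (ι (eb ω)) * g⁻¹) * lift w = lift w * (g * lift (ι (eb ω)) * g⁻¹) :=
      Subtype.ext h
    rw [← hgw] at h1
    have h2 : lift (ι (eb ω)) * lift (ι (ea F4)) = lift (ι (ea F4)) * lift (ι (eb ω)) := by
      have h3 := congrArg (fun x => g⁻¹ * x * g) h1
      calc lift (ι (eb ω)) * lift (ι (ea F4)) =
          g⁻¹ * (g * lift (ι (eb ω)) * g⁻¹ * (g * lift (ι (ea F4)) * g⁻¹)) * g := by group
        _ = g⁻¹ * (g * lift (ι (ea F4)) * g⁻¹ * (g * lift (ι (eb ω)) * g⁻¹)) * g := h3
        _ = _ := by group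
    have h3 := (B.lab.commute_iff hb.iso ha.iso hb.ne ha.ne).1 h2
    have h4 := herm_ι_left (m := 4) (eb ω) (ι (ea F4))
    rw [top_ι, herm_eb_ea hF hω] at h4
    exact one_ne_zero (α := F4) (h4.symm.trans h3)

/-- **The elements commuting with `d * d2`.** -/
theorem swap_or_fix {x : K} (hx : x * (d * d2 lift) = d * d2 lift * x) :
    (x * d = d * x ∧ x * d2 lift = d2 lift * x) ∨
      (x * d * x⁻¹ = d2 lift ∧ x * d2 lift * x⁻¹ = d) := by
  set a := x * d * x⁻¹ with ha
  set b := x * d2 lift * x⁻¹ with hb
  have haT : a ∈ T := B.conj_mem B.mem x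
  have hbT : b ∈ T := B.conj_mem B.d2_mem x
  have hab : a * b = d * d2 lift := by
    calc a * b = x * (d * d2 lift) * x⁻¹ := by rw [ha, hb]; group
      _ = d * d2 lift := by rw [hx, mul_inv_cancel_right]
  have hba : b * a = d * d2 lift := by
    calc b * a = x * (d2 lift * d) * x⁻¹ := by rw [ha, hb]; group
      _ = d * d2 lift := by rw [B.d2_comm, hx, mul_inv_cancel_right]
  have hzz : d * d2 lift ≠ 1 := by
    intro h
    apply B.ne
    have := eq_inv_of_mul_eq_one_left h
    rwa [B.inv B.d2_mem] at this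
  have haz : a * (d * d2 lift) = d * d2 lift * a := by
    calc a * (d * d2 lift) = a * (b * a) := by rw [hba]
      _ = (a * b) * a := by group
      _ = _ := by rw [hab]
  have hdi := B.inv B.mem
  have hd2i := B.inv B.d2_mem
  -- `a` commutes with `d` and `d2`
  have h1 : a * d = d * a ∧ a * d2 lift = d2 lift * a := by
    rcases B.braid haT B.mem with h | h
    · refine ⟨h, ?_⟩
      have h2 : d * (a * d2 lift) = d * (d2 lift * a) := by
        rw [← mul_assoc, ← h, mul_assoc, haz]; group
      exact mul_left_cancel h2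
    · rcases B.braid haT B.d2_mem with h' | h'
      · refine ⟨?_, h'⟩
        have h2 : a * d * d2 lift = d * a * d2 lift := by
          calc a * d * d2 lift = a * (d * d2 lift) := mul_assoc _ _ _
            _ = d * (d2 lift * a) := by rw [haz, mul_assoc]
            _ = d * (a * d2 lift) := by rw [h']
            _ = d * a * d2 lift := (mul_assoc _ _ _).symm
        exact mul_right_cancel h2
      · exfalso
        apply hzz
        have h2 : (d * a * d) * (d2 lift * a * d2 lift) = d * d2 lift := by
          rw [← h, ← h']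
          calc a * d * a * (a * d2 lift * a) = a * d * (a * a) * d2 lift * a := by group
            _ = (a * (d * d2 lift)) * a := by rw [B.sq haT]; group
            _ = d * d2 lift * (a * a) := by rw [haz, mul_assoc]
            _ = _ := by rw [B.sq haT, mul_one]
        have h3 : a * (d * d2 lift) * a = 1 := by
          have h4 := congrArg (fun y => d * y * d2 lift) h2
          calc a * (d * d2 lift) * a = (d * d) * (a * d * d2 lift * a) * (d2 lift * d2 lift) := by
                rw [B.dd, B.d2_sq]; group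
            _ = d * (d * a * d * (d2 lift * a * d2 lift)) * d2 lift := by group
            _ = d * (d * d2 lift) * d2 lift := by rw [h2]
            _ = (d * d) * (d2 lift * d2 lift) := by group
            _ = 1 := by rw [B.dd, B.d2_sq, mul_one]
        rw [haz, mul_assoc, B.sq haT, mul_one] at h3
        exact h3
  have hbeq : b = a * (d * d2 lift) := by
    rw [← hab, ← mul_assoc, B.sq haT, one_mul]
  by_cases had : a = d
  · left
    have hbd : b = d2 lift := by rw [hbeq, had, ← mul_assoc, B.dd, one_mul]
    exact ⟨mul_inv_eq_iff_eq_mul.1 (ha.symm.trans had), mul_inv_eq_iff_eq_mul.1 (hb.symm.trans hbd)⟩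
  by_cases had2 : a = d2 lift
  · right
    refine ⟨had2, ?_⟩
    rw [hbeq, had2, ← mul_assoc, B.d2_comm, mul_assoc, B.d2_sq, mul_one]
  · exfalso
    obtain ⟨w, hw, haw⟩ := B.exists_adm haT h1.1 h1.2 had had2
    obtain ⟨e, heT, hed, hed2, hne⟩ := B.exists_link hw
    rw [← haw] at hne
    have hez : e * (d * d2 lift) = d * d2 lift * e := by
      rw [← mul_assoc, hed, mul_assoc, hed2, mul_assoc]
    have hzsq : (d * d2 lift) * (d * d2 lift) = 1 := by
      calc (d * d2 lift) * (d * d2 lift) = d * (d2 lift * d) * d2 lift := by group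
        _ = (d * d) * (d2 lift * d2 lift) := by rw [B.d2_comm]; group
        _ = 1 := by rw [B.dd, B.d2_sq, mul_one]
    rcases B.braid heT haT with h | h
    · exact hne h
    · rcases B.braid heT hbT with h' | h'
      · apply hne
        rw [hbeq] at h'
        have h2 : e * a * (d * d2 lift) = a * e * (d * d2 lift) := by
          calc e * a * (d * d2 lift) = e * (a * (d * d2 lift)) := by group
            _ = a * (d * d2 lift) * e := h'
            _ = a * ((d * d2 lift) * e) := mul_assoc _ _ _
            _ = a * (e * (d * d2 lift)) := by rw [← hez]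
            _ = a * e * (d * d2 lift) := (mul_assoc _ _ _).symm
        exact mul_right_cancel h2
      · rw [hbeq] at h'
        apply hzz
        have e1 : e * (a * (d * d2 lift)) * e = e * a * e * (d * d2 lift) := by
          calc e * (a * (d * d2 lift)) * e = e * a * ((d * d2 lift) * e) := by group
            _ = _ := by rw [← hez]; group
        have e2 : a * (d * d2 lift) * e * (a * (d * d2 lift)) = a * e * a := by
          calc a * (d * d2 lift) * e * (a * (d * d2 lift))
              = a * ((d * d2 lift) * e) * (a * (d * d2 lift)) := by group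
            _ = a * e * ((d * d2 lift) * a) * (d * d2 lift) := by rw [← hez]; group
            _ = a * e * a * ((d * d2 lift) * (d * d2 lift)) := by rw [← haz]; group
            _ = a * e * a := by rw [hzsq, mul_one]
        rw [e1, e2, h] at h'
        have h3 : a * e * a * (d * d2 lift) = a * e * a * 1 := by rw [h', mul_one]
        exact mul_left_cancel h3

/-- an element interchanging `d` and `d2` -/
theorem exists_swap : ∃ p : K, p * d * p⁻¹ = d2 lift ∧ p * d2 lift * p⁻¹ = d :=
  B.trans d B.mem _ B.d2_mem _ B.d2_mem d B.mem B.ne B.ne.symm B.d2_comm.symm B.d2_comm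

end Base

end Cfsg.Agent.KFacts.FiTT
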