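import Cfsg.Agent.KFacts.FiTT.Defs
import Cfsg.Agent.KFacts.FiTT.Klevel

/-!
# The facts on `Fi22`: proofs
-/

set_option autoImplicit false
set_option linter.unusedSectionVars false

namespace Cfsg.Agent.KFacts.FiTT

open Cfsg Cfsg.Agent.LieClassical.HermBasic Cfsg.Agent.ClassicalGeometry.UnitTransv
open Cfsg.Agent.SporadicStructure.UnitTwo (exists_omega two_eq_zero)
open Cfsg.Agent.R01.Lifts Cfsg.Agent.R01.Label Cfsg.Agent.R01.Start
open Cfsg.Agent.KFacts.FiTT.Cent Cfsg.Agent.KFacts.FiTT.Radical Cfsg.Agent.KFacts.FiTT.Levi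
open Cfsg.Agent.SporRec.GF4
open Cfsg.Agent.Fischer.Unit22 (hF)
open scoped commutatorElement

universe v

section General

/-- a nonabelian simple group of even order is not a 2-group -/
theorem not_isPGroup_of_simple {S : Type*} [Group S] [Finite S] (h : IsSimpleGroup S)
    (hc : Subgroup.center S = ⊥) {p : ℕ} [Fact p.Prime] : ¬ IsPGroup p S := by
  intro hp
  have : Nontrivial S := h.toNontrivial
  have h1 := hp.center_nontrivial
  rw [hc] at h1
  exact not_subsingleton_iff_nontrivial.2 h1 inferInstance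

theorem index_cent {G : Type*} [Group G] (g : G) :
    (Subgroup.centralizer ({g} : Set G)).index = (conjugatesOf g).ncard := by
  have h1 : (Subgroup.centralizer ({g} : Set G)).index =
      (MulAction.stabilizer (ConjAct G) g).index := by
    rw [Subgroup.centralizer_eq_comap_stabilizer]
    exact Subgroup.index_comap_of_surjective _ (ConjAct.toConjAct (G := G)).surjective
  rw [h1, MulAction.index_stabilizer]
  congr 1
  ext h
  rw [ConjAct.mem_orbit_conjAct]
  exact ⟨fun h => h.symm, fun h => h.symm⟩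

end General

variable {K : Type v} [Group K] {T : Set K} {d : K}
  {π : Subgroup.centralizer ({d} : Set K) →* PSU 6 F4 2}
  {lift : (Fin 6 → F4) → Subgroup.centralizer ({d} : Set K)}

theorem mem_cent {x : K} : x ∈ Subgroup.centralizer ({d} : Set K) ↔ x * d = d * x :=
  Subgroup.mem_centralizer_singleton_iff

theorem mem_pair {a b x : K} : x ∈ Subgroup.centralizer ({a, b} : Set K) ↔
    x * a = a * x ∧ x * b = b * x := by
  rw [Subgroup.mem_centralizer_iff]
  constructor
  · intro h
    exact ⟨(h a (Set.mem_insert _ _)).symm, (h b (Set.mem_insert_of_mem _ rfl)).symm⟩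
  · rintro ⟨h1, h2⟩ y (rfl | hy)
    · exact h1.symm
    · rw [Set.mem_singleton_iff] at hy
      rw [hy]
      exact h2.symm

theorem mem_P0_of {x : K} (h1 : x * d = d * x) (h2 : x * d2 lift = d2 lift * x) :
    (⟨x, mem_cent.2 h1⟩ : Subgroup.centralizer ({d} : Set K)) ∈ P0 lift :=
  mem_P0.2 (Subtype.ext h2)

theorem comm_of_P0 {c : Subgroup.centralizer ({d} : Set K)} (h : c ∈ P0 lift) :
    (c : K) * d2 lift = d2 lift * c := congrArg Subtype.val (mem_P0.1 h)

/-- `C_C(d2)` is `C_K(d, d2)` -/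
def eP (lift : (Fin 6 → F4) → Subgroup.centralizer ({d} : Set K)) :
    P0 lift ≃* Subgroup.centralizer ({d, d2 lift} : Set K) where
  toFun x := ⟨(x : Subgroup.centralizer ({d} : Set K)), mem_pair.2 ⟨comm_d _, comm_of_P0 x.2⟩⟩
  invFun x := ⟨⟨x, mem_cent.2 (mem_pair.1 x.2).1⟩,
    mem_P0_of (mem_pair.1 x.2).1 (mem_pair.1 x.2).2⟩
  left_inv _ := rfl
  right_inv _ := rfl
  map_mul' _ _ := rfl

theorem coe_eP (x : P0 lift) : ((eP lift x : Subgroup.centralizer ({d, d2 lift} : Set K)) : K) =
    ((x : Subgroup.centralizer ({d} : Set K)) : K) := rfl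

/-- the radical in `K` -/
def RK (lift : (Fin 6 → F4) → Subgroup.centralizer ({d} : Set K)) : Subgroup K :=
  (Rad lift).map (Subgroup.centralizer ({d} : Set K)).subtype

theorem mem_RK {x : K} : x ∈ RK lift ↔ ∃ c ∈ Rad lift, (c : K) = x := Iff.rfl

namespace Base

variable (B : Base K T d π lift)
include B

theorem zz_coe : ((zz lift (zel d) : Subgroup.centralizer ({d} : Set K)) : K) = d * d2 lift := rfl

theorem RK_le : RK lift ≤ Subgroup.centralizer ({d, d2 lift} : Set K) := by
  rintro x ⟨c, hc, rfl⟩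
  exact mem_pair.2 ⟨comm_d _, comm_of_P0 (Rad_le B.lab hc)⟩

theorem mem_RK_of {x : Subgroup.centralizer ({d} : Set K)} (h : (x : K) ∈ RK lift) :
    x ∈ Rad lift := by
  obtain ⟨c, hc, h⟩ := h
  have : c = x := Subtype.ext h
  rwa [← this]

theorem eq_of_comm_RK {x : K} (h1 : x * d = d * x) (h2 : x * d2 lift = d2 lift * x)
    (h : ∀ w : Fin 6 → F4, Adm w → x * (lift w : Subgroup.centralizer ({d} : Set K)) =
      (lift w : Subgroup.centralizer ({d} : Set K)) * x) :
    x = 1 ∨ x = d ∨ x = d2 lift ∨ x = d * d2 lift := by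
  have h3 := eq_of_comm B.lab (mem_P0_of h1 h2) (fun w hw => Subtype.ext (h w hw))
  rcases h3 with h | h | h | h
  · exact Or.inl (congrArg Subtype.val h)
  · exact Or.inr (Or.inl (congrArg Subtype.val h))
  · exact Or.inr (Or.inr (Or.inl (congrArg Subtype.val h)))
  · exact Or.inr (Or.inr (Or.inr (congrArg Subtype.val h)))

theorem four_cases {x : Subgroup.centralizer ({d} : Set K)}
    (h : x = 1 ∨ x = zel d ∨ x = lift u ∨ x = zz lift (zel d)) :
    (x : K) = 1 ∨ (x : K) = d ∨ (x : K) = d2 lift ∨ (x : K) = d * d2 lift := by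
  rcases h with h | h | h | h
  · exact Or.inl (congrArg Subtype.val h)
  · exact Or.inr (Or.inl (congrArg Subtype.val h))
  · exact Or.inr (Or.inr (Or.inl (congrArg Subtype.val h)))
  · exact Or.inr (Or.inr (Or.inr (congrArg Subtype.val h)))

/-! ### The centraliser of `d` -/

theorem simple_PSU : IsSimpleGroup (PSU 6 F4 2) :=
  Cfsg.Agent.S0283.result (q := 2) hF 6 (by norm_num) (by norm_num)

theorem center_PSU : Subgroup.center (PSU 6 F4 2) = ⊥ := by
  have hs := B.simple_PSU
  rcases hs.eq_bot_or_eq_top_of_normal (Subgroup.center (PSU 6 F4 2)) inferInstance with h | h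
  · exact h
  · exfalso
    obtain ⟨ω, hω⟩ := exists_omega hF
    have hω0 : ω ≠ 0 := by
      rintro rfl
      simp at hω
    have ha := adm_a hF
    have hb : Adm (ι (eb ω) : Fin 6 → F4) := adm_ι hF (eb_ne hω0) (herm_eb hF hω)
    have h1 : Commute (π (lift (ι (eb ω)))) (π (lift (ι (ea F4)))) := by
      have h2 : π (lift (ι (ea F4))) ∈ Subgroup.center (PSU 6 F4 2) := by rw [h]; trivial
      exact Subgroup.mem_center_iff.1 h2 _
    rw [B.lab.map _ hb.ne hb.iso, B.lab.map _ ha.ne ha.iso,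
      Cfsg.Agent.R01.PSUSix.tau_commute_iff hF (by norm_num) hb.iso ha.iso hb.ne] at h1
    have h4 := herm_ι_left (m := 4) (eb ω) (ι (ea F4))
    rw [top_ι, herm_eb_ea hF hω] at h4
    exact one_ne_zero (α := F4) (h4.symm.trans h1)

theorem ker_eq : π.ker = Subgroup.center (Subgroup.centralizer ({d} : Set K)) := by
  ext c
  rw [MonoidHom.mem_ker, Subgroup.mem_center_iff]
  constructor
  · intro h g
    rcases (B.lab.ext.ker c).1 h with rfl | rfl
    · rw [mul_one, one_mul]
    · exact B.lab.ext.comm g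
  · intro h
    have h1 : π c ∈ Subgroup.center (PSU 6 F4 2) := by
      rw [Subgroup.mem_center_iff]
      intro g
      obtain ⟨g, rfl⟩ := B.lab.ext.surj g
      rw [← map_mul, ← map_mul, h]
    rwa [B.center_PSU, Subgroup.mem_bot] at h1

/-- `C_K(d) / ⟨d⟩` is `U6(2)` -/
noncomputable def quoEquiv : Subgroup.centralizer ({d} : Set K) ⧸
    Subgroup.center (Subgroup.centralizer ({d} : Set K)) ≃* PSU 6 F4 2 :=
  (QuotientGroup.quotientMulEquivOfEq B.ker_eq.symm).trans
    (QuotientGroup.quotientKerEquivOfSurjective π B.lab.ext.surj)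

theorem quasi : IsQuasisimple (Subgroup.centralizer ({d} : Set K)) := by
  refine ⟨Group.isPerfect_def.2 B.lab.perf, ?_⟩
  have := B.simple_PSU
  exact B.quoEquiv.isSimpleGroup

theorem cc {x : K} (h : ∀ y, y * d = d * y → x * y = y * x) : x = 1 ∨ x = d := by
  have hx : x * d = d * x := h d rfl
  have h1 : (⟨x, mem_cent.2 hx⟩ : Subgroup.centralizer ({d} : Set K)) ∈ π.ker := by
    rw [B.ker_eq, Subgroup.mem_center_iff]
    rintro ⟨g, hg⟩
    exact Subtype.ext (h g (mem_cent.1 hg)).symm
  rcases (B.lab.ext.ker _).1 (MonoidHom.mem_ker.1 h1) with h | h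
  · exact Or.inl (congrArg Subtype.val h)
  · exact Or.inr (congrArg Subtype.val h)

/-! ### The centraliser of `d` and `d2` -/

theorem perfect : commutator (Subgroup.centralizer ({d, d2 lift} : Set K)) = ⊤ := by
  have h := Radical.perfect B.lab B.hept
  rw [eq_top_iff]
  intro x _
  obtain ⟨c, rfl⟩ := (eP lift).surjective x
  have hc : c ∈ commutator (P0 lift) := by rw [h]; trivial
  have h1 : Subgroup.map (eP lift).toMonoidHom (commutator (P0 lift)) ≤
      commutator (Subgroup.centralizer ({d, d2 lift} : Set K)) := by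
    rw [commutator_def, commutator_def, Subgroup.map_commutator]
    exact Subgroup.commutator_mono le_top le_top
  exact h1 ⟨c, hc, rfl⟩

theorem czP {x : K} (h : ∀ y, y * d = d * y → y * d2 lift = d2 lift * y → x * y = y * x) :
    x = 1 ∨ x = d ∨ x = d2 lift ∨ x = d * d2 lift := by
  apply B.eq_of_comm_RK (h d rfl B.d2_comm.symm) (h _ B.d2_comm rfl)
  intro w hw
  exact h _ (comm_d _) (comm_of_P0 (lift_mem B.lab hw.ne hw.iso hw.perp))

theorem R_two : IsPGroup 2 (RK lift) := (isPGroup_Rad B.lab).map _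

theorem dich {N : Subgroup K} (hN : N ≤ RK lift)
    (hn : ∀ g, g * d = d * g → g * d2 lift = d2 lift * g → ∀ x ∈ N, g * x * g⁻¹ ∈ N) :
    N = RK lift ∨ ∀ x ∈ N, x = 1 ∨ x = d ∨ x = d2 lift ∨ x = d * d2 lift := by
  have hle : N.subgroupOf (Subgroup.centralizer ({d} : Set K)) ≤ Rad lift := by
    intro x hx
    exact B.mem_RK_of (hN hx)
  have hmap : (N.subgroupOf (Subgroup.centralizer ({d} : Set K))).map
      (Subgroup.centralizer ({d} : Set K)).subtype = N := by
    rw [Subgroup.subgroupOf_map_subtype, inf_eq_left]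
    intro x hx
    obtain ⟨c, _, rfl⟩ := hN hx
    exact c.2
  rcases normal_dichotomy B.lab hle (fun c hc x hx =>
    hn _ (comm_d c) (comm_of_P0 hc) _ hx) with h | h
  · left
    rw [← hmap, h]
    rfl
  · right
    intro x hx
    obtain ⟨c, _, rfl⟩ := hN hx
    exact B.four_cases (h c hx)

/-- the projection onto `PSU 4 F4 2` -/
noncomputable def fR : Subgroup.centralizer ({d, d2 lift} : Set K) →* PSU 4 F4 2 :=
  ((suEquiv hF).toMonoidHom.comp (lv B.lab)).comp (eP lift).symm.toMonoidHom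

theorem fR_surjective : Function.Surjective B.fR :=
  ((suEquiv hF).surjective.comp (lv_surjective B.lab)).comp (eP lift).symm.surjective

theorem fR_eq_one_iff (x : Subgroup.centralizer ({d, d2 lift} : Set K)) :
    B.fR x = 1 ↔ (x : K) ∈ RK lift := by
  obtain ⟨c, rfl⟩ := (eP lift).surjective x
  have h1 : B.fR (eP lift c) = suEquiv hF (lv B.lab c) := by
    show suEquiv hF (lv B.lab ((eP lift).symm (eP lift c))) = _
    rw [MulEquiv.symm_apply_apply]
  rw [h1, map_eq_one_iff _ (suEquiv hF).injective]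
  constructor
  · intro h
    exact ⟨c, mem_Rad_of_lv B.lab (z_mem_Rad B.lab B.hept) (u_mem_Rad B.lab B.hept) h, rfl⟩
  · intro h
    exact lv_of_mem_Rad B.lab (B.mem_RK_of h)

theorem d_mem : d ∈ RK lift := ⟨_, z_mem_Rad B.lab B.hept, rfl⟩

theorem d2_mem_RK : d2 lift ∈ RK lift := ⟨_, u_mem_Rad B.lab B.hept, rfl⟩

/-- `R = O_2` -/
theorem O2 {N : Subgroup K} (hN : N ≤ Subgroup.centralizer ({d, d2 lift} : Set K))
    (hn : ∀ g, g * d = d * g → g * d2 lift = d2 lift * g → ∀ x ∈ N, g * x * g⁻¹ ∈ N)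
    (hp : IsPGroup 2 N) : N ≤ RK lift := by
  have : Fact (Nat.Prime 2) := ⟨Nat.prime_two⟩
  set P := Subgroup.centralizer ({d, d2 lift} : Set K) with hP
  have hs : IsSimpleGroup (PSU 4 F4 2) := by
    have := isSimple_SU_four hF
    exact (suEquiv hF).symm.isSimpleGroup
  have hc : Subgroup.center (PSU 4 F4 2) = ⊥ := by
    rw [eq_bot_iff]
    intro x hx
    have h1 : (suEquiv hF).symm x ∈ Subgroup.center (SU 4 F4 2) := by
      rw [Subgroup.mem_center_iff] at hx ⊢
      intro g
      apply (suEquiv hF).injective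
      rw [map_mul, map_mul, MulEquiv.apply_symm_apply]
      exact hx _
    have h2 : (suEquiv hF).symm x = 1 := Subgroup.mem_bot.1 ((le_of_eq (center_SU_four hF)) h1)
    rw [Subgroup.mem_bot, ← (suEquiv hF).apply_symm_apply x, h2, map_one]
  set N' := (N.subgroupOf P).map B.fR with hN'
  have hnorm : N'.Normal := by
    constructor
    rintro _ ⟨⟨x, hxP⟩, hx, rfl⟩ g
    obtain ⟨⟨g, hgP⟩, rfl⟩ := B.fR_surjective g
    refine ⟨⟨g, hgP⟩ * ⟨x, hxP⟩ * (⟨g, hgP⟩ : P)⁻¹, ?_, by rw [map_mul, map_mul, map_inv]⟩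
    exact hn g (mem_pair.1 hgP).1 (mem_pair.1 hgP).2 x hx
  have hpN : IsPGroup 2 N' := by
    apply IsPGroup.map
    exact hp.comap_subtype
  have hfin : Finite (PSU 4 F4 2) := by
    have := B.finite
    exact Finite.of_surjective _ B.fR_surjective
  rcases hs.eq_bot_or_eq_top_of_normal N' hnorm with h | h
  · intro x hx
    have h1 : B.fR ⟨x, hN hx⟩ ∈ N' := ⟨⟨x, hN hx⟩, hx, rfl⟩
    rw [h, Subgroup.mem_bot] at h1
    exact (B.fR_eq_one_iff _).1 h1
  · exfalso
    rw [h] at hpN
    refine not_isPGroup_of_simple hs hc (p := 2) ?_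
    exact hpN.of_equiv Subgroup.topEquiv

/-- `R` is normal in `C_K(d d2)` -/
theorem R_normal {g : K} (hg : g * (d * d2 lift) = d * d2 lift * g) {x : K} (hx : x ∈ RK lift) :
    g * x * g⁻¹ ∈ RK lift := by
  rcases B.swap_or_fix hg with ⟨h1, h2⟩ | ⟨h1, h2⟩
  · obtain ⟨c, hc, rfl⟩ := hx
    exact ⟨_, conj_mem_Rad B.lab (mem_P0_of h1 h2) hc, rfl⟩
  · have hconj : ∀ y : K, y * d = d * y → y * d2 lift = d2 lift * y →
        (g⁻¹ * y * g) * d = d * (g⁻¹ * y * g) ∧
        (g⁻¹ * y * g) * d2 lift = d2 lift * (g⁻¹ * y * g) := by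
      intro y hy hy2
      have e1 : g * d = d2 lift * g := mul_inv_eq_iff_eq_mul.1 h1
      have e2 : g * d2 lift = d * g := mul_inv_eq_iff_eq_mul.1 h2
      have e3 : d * g⁻¹ = g⁻¹ * d2 lift := by
        rw [eq_inv_mul_iff_mul_eq, ← mul_assoc, e1, mul_inv_cancel_right]
      have e4 : d2 lift * g⁻¹ = g⁻¹ * d := by
        rw [eq_inv_mul_iff_mul_eq, ← mul_assoc, e2, mul_inv_cancel_right]
      constructor
      · calc g⁻¹ * y * g * d = g⁻¹ * y * (g * d) := by group
          _ = g⁻¹ * (y * d2 lift) * g := by rw [e1]; group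
          _ = (g⁻¹ * d2 lift) * y * g := by rw [hy2]; group
          _ = _ := by rw [← e3]; group
      · calc g⁻¹ * y * g * d2 lift = g⁻¹ * y * (g * d2 lift) := by group
          _ = g⁻¹ * (y * d) * g := by rw [e2]; group
          _ = (g⁻¹ * d) * y * g := by rw [hy]; group
          _ = _ := by rw [← e4]; group
    have hconj' : ∀ y : K, y * d = d * y → y * d2 lift = d2 lift * y →
        (g * y * g⁻¹) * d = d * (g * y * g⁻¹) ∧
        (g * y * g⁻¹) * d2 lift = d2 lift * (g * y * g⁻¹) := by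
      intro y hy hy2
      have e1 : g * d = d2 lift * g := mul_inv_eq_iff_eq_mul.1 h1
      have e2 : g * d2 lift = d * g := mul_inv_eq_iff_eq_mul.1 h2
      have e3 : g⁻¹ * d = d2 lift * g⁻¹ := by
        rw [inv_mul_eq_iff_eq_mul, ← mul_assoc, e2, mul_inv_cancel_right]
      have e4 : g⁻¹ * d2 lift = d * g⁻¹ := by
        rw [inv_mul_eq_iff_eq_mul, ← mul_assoc, e1, mul_inv_cancel_right]
      constructor
      · calc g * y * g⁻¹ * d = g * y * (g⁻¹ * d) := by group
          _ = g * (y * d2 lift) * g⁻¹ := by rw [e3]; group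
          _ = (g * d2 lift) * y * g⁻¹ := by rw [hy2]; group
          _ = _ := by rw [e2]; group
      · calc g * y * g⁻¹ * d2 lift = g * y * (g⁻¹ * d2 lift) := by group
          _ = g * (y * d) * g⁻¹ := by rw [e4]; group
          _ = (g * d) * y * g⁻¹ := by rw [hy]; group
          _ = _ := by rw [e1]; group
    set N := (RK lift).map (MulAut.conj g).toMonoidHom with hN
    have hNle : N ≤ RK lift := by
      apply B.O2
      · rintro _ ⟨y, hy, rfl⟩
        have h3 := mem_pair.1 (B.RK_le hy)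
        exact mem_pair.2 (hconj' y h3.1 h3.2)
      · rintro k hk1 hk2 _ ⟨y, hy, rfl⟩
        obtain ⟨h3, h4⟩ := hconj k hk1 hk2
        obtain ⟨c, hc, rfl⟩ := hy
        refine ⟨(g⁻¹ * k * g) * c * (g⁻¹ * k * g)⁻¹,
          ⟨_, conj_mem_Rad B.lab (mem_P0_of h3 h4) hc, rfl⟩, ?_⟩
        show g * ((g⁻¹ * k * g) * c * (g⁻¹ * k * g)⁻¹) * g⁻¹ = k * (g * c * g⁻¹) * k⁻¹
        group
      · exact B.R_two.map _
    exact hNle ⟨x, hx, rfl⟩

/-- the centraliser of the radical -/
theorem R_center {x : K} (h : ∀ y ∈ RK lift, x * y = y * x) :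
    x = 1 ∨ x = d ∨ x = d2 lift ∨ x = d * d2 lift := by
  have h1 : x * d = d * x := h d B.d_mem
  have h2 : x * d2 lift = d2 lift * x := h _ B.d2_mem_RK
  set P := Subgroup.centralizer ({d, d2 lift} : Set K) with hP
  have hs : IsSimpleGroup (PSU 4 F4 2) := by
    have := isSimple_SU_four hF
    exact (suEquiv hF).symm.isSimpleGroup
  -- `A = C_P(R)`
  let A : Subgroup P := (Subgroup.centralizer ((RK lift : Subgroup K) : Set K)).subgroupOf P
  have hA : ∀ y : P, y ∈ A ↔ ∀ r ∈ RK lift, (y : K) * r = r * y := by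
    intro y
    rw [Subgroup.mem_subgroupOf, Subgroup.mem_centralizer_iff]
    exact ⟨fun h r hr => (h r hr).symm, fun h r hr => (h r hr).symm⟩
  have hconjR : ∀ (g : P) (r : K), r ∈ RK lift → (g : K)⁻¹ * r * g ∈ RK lift := by
    intro g r hr
    have h3 := mem_pair.1 (g⁻¹ : P).2
    obtain ⟨c, hc, rfl⟩ := hr
    have h4 : (⟨((g⁻¹ : P) : K), mem_cent.2 h3.1⟩ : Subgroup.centralizer ({d} : Set K)) * c *
        (⟨((g⁻¹ : P) : K), mem_cent.2 h3.1⟩ : Subgroup.centralizer ({d} : Set K))⁻¹ ∈ Rad lift :=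
      conj_mem_Rad B.lab (mem_P0_of h3.1 h3.2) hc
    refine ⟨_, h4, ?_⟩
    show ((g : K)⁻¹) * c * ((g : K)⁻¹)⁻¹ = _
    rw [inv_inv]
    rfl
  have hAn : A.Normal := by
    constructor
    intro y hy g
    rw [hA] at hy ⊢
    intro r hr
    show (g : K) * y * (g : K)⁻¹ * r = r * ((g : K) * y * (g : K)⁻¹)
    have h3 := hy _ (hconjR g r hr)
    calc (g : K) * y * (g : K)⁻¹ * r = g * (y * ((g : K)⁻¹ * r * g)) * (g : K)⁻¹ := by group
      _ = g * (((g : K)⁻¹ * r * g) * y) * (g : K)⁻¹ := by rw [h3]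
      _ = _ := by group
  have hnorm : (A.map B.fR).Normal := hAn.map _ B.fR_surjective
  rcases hs.eq_bot_or_eq_top_of_normal _ hnorm with h0 | h0
  · -- `A ≤ R`
    have hxA : (⟨x, mem_pair.2 ⟨h1, h2⟩⟩ : P) ∈ A := (hA _).2 h
    have hx1 : B.fR ⟨x, mem_pair.2 ⟨h1, h2⟩⟩ ∈ A.map B.fR := ⟨_, hxA, rfl⟩
    rw [h0, Subgroup.mem_bot] at hx1
    have hxR := (B.fR_eq_one_iff _).1 hx1
    -- the centre of `R`
    have hle : RK lift ⊓ Subgroup.centralizer ((RK lift : Subgroup K) : Set K) ≤ RK lift :=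
      inf_le_left
    have hinv : ∀ g, g * d = d * g → g * d2 lift = d2 lift * g →
        ∀ y ∈ RK lift ⊓ Subgroup.centralizer ((RK lift : Subgroup K) : Set K),
        g * y * g⁻¹ ∈ RK lift ⊓ Subgroup.centralizer ((RK lift : Subgroup K) : Set K) := by
      intro g hg1 hg2 y hy
      refine ⟨B.R_normal ?_ hy.1, ?_⟩
      · rw [← mul_assoc, hg1, mul_assoc, hg2, mul_assoc]
      · have h4 : (⟨g, mem_pair.2 ⟨hg1, hg2⟩⟩ : P) * ⟨y, B.RK_le hy.1⟩ *
            (⟨g, mem_pair.2 ⟨hg1, hg2⟩⟩ : P)⁻¹ ∈ A := by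
          apply hAn.conj_mem
          exact hy.2
        exact h4
    rcases B.dich hle hinv with h3 | h3
    · exfalso
      obtain ⟨a, ha, b, hb, hab⟩ := exists_comm_zz B.lab
      have h4 : (a : K) ∈ RK lift := ⟨a, ha, rfl⟩
      rw [← h3] at h4
      have h5 := (Subgroup.mem_centralizer_iff.1 h4.2) (b : K) ⟨b, hb, rfl⟩
      have h6 : a * b * a⁻¹ * b⁻¹ = 1 := by
        apply Subtype.ext
        show (a : K) * b * (a : K)⁻¹ * (b : K)⁻¹ = 1
        rw [← h5]
        group
      rw [h6] at hab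
      have h7 : (1 : K) = d * d2 lift := congrArg Subtype.val hab
      apply B.ne
      have h8 := eq_inv_of_mul_eq_one_left h7.symm
      rwa [B.inv B.d2_mem] at h8
    · exact h3 x ⟨hxR, Subgroup.mem_centralizer_iff.2 fun y hy => (h y hy).symm⟩
  · -- every element of `P` induces an inner automorphism on `R`
    exfalso
    have hinner : ∀ (c : Subgroup.centralizer ({d} : Set K)), c ∈ P0 lift → ∀ r ∈ Rad lift,
        c * r * c⁻¹ = r ∨ c * r * c⁻¹ = zz lift (zel d) * r := by
      intro c hc r hr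
      have hcP : (c : K) ∈ P := mem_pair.2 ⟨comm_d c, comm_of_P0 hc⟩
      have h3 : B.fR ⟨c, hcP⟩ ∈ A.map B.fR := by rw [h0]; trivial
      obtain ⟨a, ha, hac⟩ := h3
      have h4 : B.fR (a⁻¹ * ⟨c, hcP⟩) = 1 := by rw [map_mul, map_inv, hac, inv_mul_cancel]
      have h5 := (B.fR_eq_one_iff _).1 h4
      obtain ⟨s, hs, hsc⟩ := h5
      have h6 : (c : K) = a * s := by
        have h7 : (s : K) = (a : K)⁻¹ * c := hsc
        rw [h7, mul_inv_cancel_left]
      have h8 := (hA a).1 ha
      have h9 : (c : K) * r * (c : K)⁻¹ = s * r * (s : K)⁻¹ := by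
        have h10 : (s * r * s⁻¹ : Subgroup.centralizer ({d} : Set K)) ∈ Rad lift :=
          mul_mem (mul_mem hs hr) (inv_mem hs)
        have h11 := h8 _ ⟨_, h10, rfl⟩
        calc (c : K) * r * (c : K)⁻¹ = a * ((s : K) * r * (s : K)⁻¹) * (a : K)⁻¹ := by
              rw [h6]; group
          _ = ((s : K) * r * (s : K)⁻¹) * a * (a : K)⁻¹ := by
              congr 1
          _ = _ := by group
      rcases comm_Rad B.lab hs hr with h12 | h12
      · left
        have h13 : c * r * c⁻¹ = s * r * s⁻¹ := Subtype.ext h9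
        rw [h13]
        exact mul_inv_eq_one.1 h12
      · right
        have h13 : c * r * c⁻¹ = s * r * s⁻¹ := Subtype.ext h9
        rw [h13]
        exact mul_inv_eq_iff_eq_mul.1 h12
    -- `Rad` is abelian
    have ha := adm_a hF
    set x0 := lift (ι (ea F4)) * lift (ι (ea F4) + (1 : F4) • u) with hx0
    have hx0R : x0 ∈ Rad lift := pair_mem_Rad ha rfl (ha.add hF 1).ne
    have hgen : ∀ y ∈ Rad lift, y ∈ Subgroup.closure ({x0, zz lift (zel d)} : Set _) := by
      intro y hy
      refine Subgroup.closure_induction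
        (p := fun y _ => y ∈ Subgroup.closure ({x0, zz lift (zel d)} : Set _)) ?_ ?_ ?_ ?_ hy
      · rintro y ⟨w, c, h0', h0'', hw, hwu, rfl⟩
        by_cases hc : c = 0
        · subst hc
          rw [zero_smul, add_zero, B.lab.sq w h0' hw]
          exact one_mem _
        by_cases hk : ∃ k : F4, w = k • u
        · obtain ⟨k, rfl⟩ := hk
          have hk0 : k ≠ 0 := by
            rintro rfl
            exact h0' (zero_smul _ _)
          have hkc : k + c ≠ 0 := by
            intro h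
            apply h0''
            rw [← add_smul, h, zero_smul]
          have h1 : lift (k • u) * lift (k • u + c • u) = 1 := by
            rw [← add_smul, B.lab.smul u k (hu hF) hk0, B.lab.smul u (k + c) (hu hF) hkc, uu B.lab]
          rw [h1]
          exact one_mem _
        · obtain ⟨g, hg, h3, h4⟩ := exists_conj_pair B.lab ha ⟨hw, hwu, hk⟩
            (one_ne_zero (α := F4)) hc
          have h5 : lift w * lift (w + c • u) = g * x0 * g⁻¹ := by
            rw [hx0, ← h3, ← h4]
            group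
          rw [h5]
          rcases hinner g hg x0 hx0R with h6 | h6
          · rw [h6]
            exact Subgroup.subset_closure (Set.mem_insert _ _)
          · rw [h6]
            exact mul_mem (Subgroup.subset_closure (Set.mem_insert_of_mem _ rfl))
              (Subgroup.subset_closure (Set.mem_insert _ _))
      · exact one_mem _
      · intro a b _ _ ha hb
        exact mul_mem ha hb
      · intro a _ ha
        exact inv_mem ha
    have hcomm : ∀ y ∈ Rad lift, ∀ y' ∈ Rad lift, y * y' = y' * y := by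
      intro y hy y' hy'
      have h3 : IsMulCommutative (Subgroup.closure ({x0, zz lift (zel d)} : Set _)) := by
        apply Subgroup.isMulCommutative_closure
        rintro a (rfl | ha) b (rfl | hb)
        · rfl
        · rw [Set.mem_singleton_iff] at hb
          rw [hb]
          exact zz_comm B.lab (Rad_le B.lab hx0R)
        · rw [Set.mem_singleton_iff] at ha
          rw [ha]
          exact (zz_comm B.lab (Rad_le B.lab hx0R)).symm
        · rw [Set.mem_singleton_iff] at ha hb
          rw [ha, hb]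
      have h4 := h3.is_comm.comm (⟨y, hgen y hy⟩ : Subgroup.closure _) ⟨y', hgen y' hy'⟩
      exact congrArg Subtype.val h4
    obtain ⟨a, ha', b, hb, hab⟩ := exists_comm_zz B.lab
    rw [hcomm a ha' b hb, mul_inv_cancel_right, mul_inv_cancel] at hab
    have h7 : (1 : K) = d * d2 lift := congrArg Subtype.val hab
    apply B.ne
    have h8 := eq_inv_of_mul_eq_one_left h7.symm
    rwa [B.inv B.d2_mem] at h8

end Base

end Cfsg.Agent.KFacts.FiTT
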