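import Cfsg.Agent.KFacts.FiTT.Facts
import Cfsg.Agent.S0280

/-!
# The facts on `Fi22`: indices, the centre of a Sylow 2-subgroup, the final theorem
-/

set_option autoImplicit false
set_option linter.unusedSectionVars false

namespace Cfsg.Agent.KFacts.FiTT

open Cfsg Cfsg.Agent.LieClassical.HermBasic Cfsg.Agent.ClassicalGeometry.UnitTransv
open Cfsg.Agent.R01.Lifts Cfsg.Agent.R01.Label Cfsg.Agent.R01.Start
open Cfsg.Agent.KFacts.FiTT.Cent Cfsg.Agent.KFacts.FiTT.Radical Cfsg.Agent.KFacts.FiTT.Levi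
open Cfsg.Agent.SporRec.GF4
open Cfsg.Agent.Fischer.Unit22 (hF)

universe v

theorem card_PSU_four : Nat.card (PSU 4 F4 2) = 25920 := by
  have h1 := Cfsg.Agent.S0280.result (F := F4) (q := 2) rfl 4 (by norm_num)
  have h2 : Nat.gcd 4 (2 + 1) = 1 := by norm_num
  have h3 : (∏ i ∈ Finset.range 4, (if Even i then 2 ^ (i + 1) + 1 else 2 ^ (i + 1) - 1)) = 1215 := by
    decide
  rw [h2, h3] at h1
  norm_num at h1
  omega

variable {K : Type v} [Group K] {T : Set K} {d : K}
  {π : Subgroup.centralizer ({d} : Set K) →* PSU 6 F4 2}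
  {lift : (Fin 6 → F4) → Subgroup.centralizer ({d} : Set K)}

namespace Base

variable (B : Base K T d π lift)
include B

theorem T_eq : T = conjugatesOf d := by
  obtain ⟨-, ⟨t, ht, hT⟩, -⟩ := B.three
  have hd := B.mem
  rw [hT] at hd
  rw [hT]
  ext x
  exact ⟨fun h => (show IsConj t d from hd).symm.trans h, fun h => (show IsConj t d from hd).trans h⟩

theorem index_C : (Subgroup.centralizer ({d} : Set K)).index = 3510 := by
  rw [index_cent, ← B.T_eq, B.ncard]

theorem Dset_eq : Dset lift = conjugatesOf (lift u) := by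
  ext x
  constructor
  · rintro ⟨v, h0, hv, rfl⟩
    obtain ⟨c, hc⟩ := B.lab.trans (hu hF) hv (u_ne hF) h0
    exact isConj_iff.2 ⟨c, hc⟩
  · intro h
    obtain ⟨c, rfl⟩ := isConj_iff.1 (show IsConj (lift u) x from h)
    exact B.lab.conj_mem (Lab.mem_D (u_ne hF) (hu hF)) c

theorem index_P0 : (P0 lift).index = 693 := by
  rw [P0, index_cent, ← B.Dset_eq, B.link]

theorem relIndex_P : (Subgroup.centralizer ({d, d2 lift} : Set K)).relIndex
    (Subgroup.centralizer ({d} : Set K)) = 693 := by
  rw [← B.index_P0]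
  show ((Subgroup.centralizer ({d, d2 lift} : Set K)).subgroupOf
    (Subgroup.centralizer ({d} : Set K))).index = _
  congr 1
  ext x
  rw [Subgroup.mem_subgroupOf, mem_pair, mem_P0]
  exact ⟨fun h => Subtype.ext h.2, fun h => ⟨comm_d x, congrArg Subtype.val h⟩⟩

theorem index_P : (Subgroup.centralizer ({d, d2 lift} : Set K)).index = 693 * 3510 := by
  have hle : Subgroup.centralizer ({d, d2 lift} : Set K) ≤ Subgroup.centralizer ({d} : Set K) :=
    fun x hx => mem_cent.2 (mem_pair.1 hx).1
  rw [← Subgroup.relIndex_mul_index hle, B.relIndex_P, B.index_C]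

theorem card_P : Nat.card (Subgroup.centralizer ({d, d2 lift} : Set K)) = 26542080 := by
  have h := (Subgroup.centralizer ({d, d2 lift} : Set K)).card_mul_index
  rw [B.index_P, B.card] at h
  omega

theorem mem_z {x : K} : x ∈ Subgroup.centralizer ({d * d2 lift} : Set K) ↔
    x * (d * d2 lift) = d * d2 lift * x := Subgroup.mem_centralizer_singleton_iff

theorem P_le_z : Subgroup.centralizer ({d, d2 lift} : Set K) ≤
    Subgroup.centralizer ({d * d2 lift} : Set K) := by
  intro x hx
  obtain ⟨h1, h2⟩ := mem_pair.1 hx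
  rw [B.mem_z, ← mul_assoc, h1, mul_assoc, h2, mul_assoc]

theorem relIndex_z : (Subgroup.centralizer ({d, d2 lift} : Set K)).relIndex
    (Subgroup.centralizer ({d * d2 lift} : Set K)) = 2 := by
  rw [Subgroup.relIndex_eq_two_iff]
  obtain ⟨p, hp, hp'⟩ := B.exists_swap
  have hpz : p * (d * d2 lift) = d * d2 lift * p := by
    have h1 : p * (d * d2 lift) * p⁻¹ = (p * d * p⁻¹) * (p * d2 lift * p⁻¹) := by group
    rw [hp, hp', B.d2_comm] at h1
    exact mul_inv_eq_iff_eq_mul.1 h1
  have hp1 : p * d = d2 lift * p := mul_inv_eq_iff_eq_mul.1 hp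
  have hp2 : p * d2 lift = d * p := mul_inv_eq_iff_eq_mul.1 hp'
  refine ⟨p, B.mem_z.2 hpz, fun b hb => ?_⟩
  rcases B.swap_or_fix (B.mem_z.1 hb) with ⟨h1, h2⟩ | ⟨h1, h2⟩
  · right
    refine ⟨mem_pair.2 ⟨h1, h2⟩, fun h => ?_⟩
    have h3 := (mem_pair.1 h).1
    apply B.ne
    have h4 : b * (p * d) = d * b * p := by rw [← mul_assoc, h3, mul_assoc]
    rw [hp1, ← mul_assoc, h2] at h4
    have h5 := mul_right_cancel (mul_right_cancel h4)
    exact h5.symm
  · left
    have e1 : b * d = d2 lift * b := mul_inv_eq_iff_eq_mul.1 h1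
    have e2 : b * d2 lift = d * b := mul_inv_eq_iff_eq_mul.1 h2
    refine ⟨mem_pair.2 ⟨?_, ?_⟩, fun h => ?_⟩
    · rw [mul_assoc, hp1, ← mul_assoc, e2, mul_assoc]
    · rw [mul_assoc, hp2, ← mul_assoc, e1, mul_assoc]
    · have h3 := (mem_pair.1 h).1
      apply B.ne
      rw [e1] at h3
      exact (mul_right_cancel h3).symm

theorem index_z : (Subgroup.centralizer ({d * d2 lift} : Set K)).index = 1216215 := by
  have h := Subgroup.relIndex_mul_index B.P_le_z
  rw [B.relIndex_z, B.index_P] at h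
  omega

theorem R_card : Nat.card (RK lift) = 2 ^ 10 := by
  have hfin := B.finite
  have h1 : Nat.card (Subgroup.centralizer ({d, d2 lift} : Set K)) =
      Nat.card B.fR.ker * Nat.card (PSU 4 F4 2) := by
    rw [← Nat.card_congr (QuotientGroup.quotientKerEquivOfSurjective B.fR
      B.fR_surjective).toEquiv]
    exact (B.fR.ker.card_eq_card_quotient_mul_card_subgroup).trans (mul_comm _ _)
  have h2 : Nat.card B.fR.ker = Nat.card (RK lift) := by
    refine Nat.card_congr
      { toFun := fun x => ⟨((x : Subgroup.centralizer ({d, d2 lift} : Set K)) : K),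
          (B.fR_eq_one_iff _).1 (MonoidHom.mem_ker.1 x.2)⟩
        invFun := fun x => ⟨⟨x, B.RK_le x.2⟩,
          MonoidHom.mem_ker.2 ((B.fR_eq_one_iff _).2 x.2)⟩
        left_inv := fun _ => rfl
        right_inv := fun _ => rfl }
  rw [B.card_P, h2, card_PSU_four] at h1
  omega

/-- the centre of a Sylow 2-subgroup in `C_K(z)` -/
theorem center_S (S : Sylow 2 K) (hS : (S : Subgroup K) ≤ Subgroup.centralizer ({d * d2 lift} : Set K))
    {x : K} (h : ∀ y ∈ S, x * y = y * x) : x = 1 ∨ x = d * d2 lift := by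
  have hfact : Fact (Nat.Prime 2) := ⟨Nat.prime_two⟩
  have hfin := B.finite
  -- `R ≤ S`
  have hRS : RK lift ≤ (S : Subgroup K) := by
    have hz : RK lift ≤ Subgroup.centralizer ({d * d2 lift} : Set K) := B.RK_le.trans B.P_le_z
    have hsup : IsPGroup 2 ((S : Subgroup K) ⊔ RK lift : Subgroup K) := by
      apply IsPGroup.to_sup_of_normal_right' S.isPGroup' B.R_two
      intro s hs
      have hsz := B.mem_z.1 (hS hs)
      have hsz' := B.mem_z.1 (inv_mem (hS hs))
      rw [Subgroup.mem_normalizer_iff]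
      intro r
      constructor
      · intro hr
        exact B.R_normal hsz hr
      · intro hr
        have h3 := B.R_normal hsz' hr
        have h4 : s⁻¹ * (s * r * s⁻¹) * s⁻¹⁻¹ = r := by group
        rwa [h4] at h3
    have h3 := S.is_maximal' hsup le_sup_left
    rw [← h3]
    exact le_sup_right
  have hx := B.R_center (fun y hy => h y (hRS hy))
  -- an element of `S` outside `P`
  obtain ⟨s, hs, hsP⟩ : ∃ s ∈ S, s ∉ Subgroup.centralizer ({d, d2 lift} : Set K) := by
    by_contra hcon
    push Not at hcon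
    have hle : (S : Subgroup K) ≤ Subgroup.centralizer ({d, d2 lift} : Set K) := hcon
    have h1 : ¬ 2 ∣ (S : Subgroup K).index := S.not_dvd_index
    apply h1
    have h2 := Subgroup.index_dvd_of_le hle
    rw [B.index_P] at h2
    exact dvd_trans (by norm_num) h2
  rcases B.swap_or_fix (B.mem_z.1 (hS hs)) with h1 | ⟨h1, h2⟩
  · exact absurd (mem_pair.2 h1) hsP
  · rcases hx with rfl | rfl | rfl | rfl
    · exact Or.inl rfl
    · exfalso
      have h3 := h s hs
      rw [← h3, mul_inv_cancel_right] at h1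
      exact B.ne h1
    · exfalso
      have h3 := h s hs
      rw [← h3, mul_inv_cancel_right] at h2
      exact B.ne h2.symm
    · exact Or.inr rfl

/-- **The facts on `Fi22`.** -/
theorem facts : Facts K d (d2 lift) (RK lift) where
  card := B.card
  dd := B.dd
  dd' := B.d2_sq
  d_ne := B.d_ne
  d'_ne := B.d2_ne_one
  ne := B.ne
  comm := B.d2_comm.symm
  swap := B.exists_swap
  quasi := B.quasi
  quo := ⟨F4, inferInstance, inferInstance, rfl, ⟨B.quoEquiv⟩⟩
  cc x h := B.cc h
  cz x h := B.swap_or_fix h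
  perfect := B.perfect
  czP x h := B.czP h
  R_le := B.RK_le
  d_mem := B.d_mem
  d'_mem := B.d2_mem_RK
  R_two := B.R_two
  R_card := B.R_card
  R_comm := by
    rintro _ ⟨a, ha, rfl⟩ _ ⟨b, hb, rfl⟩
    rcases comm_Rad B.lab ha hb with h | h
    · exact Or.inl (congrArg Subtype.val h)
    · exact Or.inr (congrArg Subtype.val h)
  R_sq := by
    rintro _ ⟨a, ha, rfl⟩
    rcases sq_Rad B.lab ha with h | h
    · exact Or.inl (congrArg Subtype.val h)
    · exact Or.inr (congrArg Subtype.val h)
  R_nonab := by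
    obtain ⟨a, ha, b, hb, hab⟩ := exists_comm_zz B.lab
    exact ⟨a, ⟨a, ha, rfl⟩, b, ⟨b, hb, rfl⟩, congrArg Subtype.val hab⟩
  R_normal g hg x hx := B.R_normal hg hx
  R_center x h := B.R_center h
  dich N hN hn := B.dich hN hn
  O2 N hN hn hp := B.O2 hN hn hp
  quoR := ⟨F4, inferInstance, inferInstance, rfl, B.fR, B.fR_surjective, B.fR_eq_one_iff⟩
  odd := by rw [B.index_z]; decide
  center_S S hS x _ h := B.center_S S hS h

end Base

/-- **Every group isomorphic to `Fi22` has the facts.** -/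
theorem has_of_iso {K : Type v} [Group K] (h : Nonempty (K ≃* Spor.Fi22)) : Has K := by
  obtain ⟨T, d, π, lift, B⟩ := exists_base h
  exact ⟨d, d2 lift, RK lift, B.facts⟩

end Cfsg.Agent.KFacts.FiTT
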