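import Cfsg.Agent.KFacts.FiTT.AllPairs

/-!
# `perfP` and `cenJ` of `OddHalf.D8.Fi22.Geo`
-/

set_option autoImplicit false

namespace Cfsg.Agent.KFacts.FiTT

open Cfsg Subgroup Cfsg.Agent.R01.Label
open Cfsg.Agent.KFacts.FiTT.Cent

universe v

variable {K : Type v} [Group K]

theorem centralizer_inf (a b : K) :
    centralizer ({a} : Set K) ⊓ centralizer ({b} : Set K) = centralizer ({a, b} : Set K) := by
  ext x
  rw [mem_inf, mem_centralizer_singleton_iff, mem_centralizer_singleton_iff, mem_centralizer_iff]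
  constructor
  · rintro ⟨h1, h2⟩ y hy
    rcases hy with hy | hy
    · rw [hy]; exact h1.symm
    · rw [Set.mem_singleton_iff.1 hy]; exact h2.symm
  · intro h
    exact ⟨(h a (Or.inl rfl)).symm, (h b (Or.inr rfl)).symm⟩

theorem Facts.perf {a b : K} {R : Subgroup K} (F : Facts K a b R) :
    ⁅centralizer ({a} : Set K) ⊓ centralizer ({b} : Set K),
      centralizer ({a} : Set K) ⊓ centralizer ({b} : Set K)⁆ =
      centralizer ({a} : Set K) ⊓ centralizer ({b} : Set K) := by
  rw [centralizer_inf]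
  have h := congrArg (Subgroup.map (centralizer ({a, b} : Set K)).subtype) F.perfect
  rw [map_subtype_commutator, ← MonoidHom.range_eq_map, range_subtype] at h
  exact h

/-- the centraliser of two commuting transpositions is perfect -/
theorem perfP (e : K ≃* Spor.Fi22) : ∀ a ∈ TK e, ∀ b ∈ TK e, a ≠ b → a * b = b * a →
    ⁅centralizer ({a} : Set K) ⊓ centralizer ({b} : Set K),
      centralizer ({a} : Set K) ⊓ centralizer ({b} : Set K)⁆ =
      centralizer ({a} : Set K) ⊓ centralizer ({b} : Set K) := by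
  intro a ha b hb hne hab
  obtain ⟨R, F⟩ := facts_of_iso e ha hb hne hab
  exact F.perf

/-- every transposition commutes with another one -/
theorem exists_nbr (e : K ≃* Spor.Fi22) {a : K} (ha : a ∈ TK e) :
    ∃ b ∈ TK e, a ≠ b ∧ a * b = b * a := by
  obtain ⟨d, π, lift, B⟩ := exists_base_of e
  obtain ⟨-, ⟨t, ht, hT⟩, -⟩ := B.three
  have h1 := ha
  have h2 := B.mem
  rw [hT] at h1 h2
  obtain ⟨g, hg⟩ := isConj_iff.1 (show IsConj d a from
    (show IsConj t d from h2).symm.trans (show IsConj t a from h1))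
  refine ⟨g * d2 lift * g⁻¹, B.conj_mem B.d2_mem g, ?_, ?_⟩
  · intro h
    rw [← hg] at h
    exact B.ne (mul_left_cancel (mul_right_cancel h))
  · rw [← hg]
    have := B.d2_comm
    calc g * d * g⁻¹ * (g * d2 lift * g⁻¹) = g * (d * d2 lift) * g⁻¹ := by group
      _ = g * (d2 lift * d) * g⁻¹ := by rw [this]
      _ = _ := by group

/-- `C_K(C_K(a)) = {1, a}` -/
theorem cenJ (e : K ≃* Spor.Fi22) : ∀ a ∈ TK e, ∀ g : K, g * a = a * g →
    (∀ j : K, j * a = a * j → g * j = j * g) → g = 1 ∨ g = a := by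
  intro a ha g _ h
  obtain ⟨b, hb, hne, hab⟩ := exists_nbr e ha
  obtain ⟨R, F⟩ := facts_of_iso e ha hb hne hab
  exact F.cc g h

end Cfsg.Agent.KFacts.FiTT
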