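import Cfsg.Agent.KFacts.FiTT.Radical2
import Cfsg.Agent.R01.Fi22Facts

/-!
# The heptad relation in unitary coordinates, for the group Fi22 on 3510 points
-/

set_option autoImplicit false

namespace Cfsg.Agent.KFacts.FiTT.Hept

open Cfsg Cfsg.Agent.LieClassical.HermBasic Cfsg.Agent.ClassicalGeometry.UnitTransv
open Cfsg.Agent.SporadicStructure.UnitTwo Cfsg.Agent.R01.PSUSix
open Cfsg.Agent.ClassicalGeometry.UnitAutBasic (tau pr pr_surjective)
open Cfsg.Agent.R01.Lifts Cfsg.Agent.R01.Label Cfsg.Agent.R01.Start Cfsg.Agent.R01.Loc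
open Cfsg.Agent.KFacts.FiTT.Levi Cfsg.Agent.KFacts.FiTT.Cent Cfsg.Agent.KFacts.FiTT.Radical

section Abs

variable {C : Type*} [Group C] {F : Type*} [Field F] [Fintype F] {hF : Fintype.card F = 2 ^ 2}
  {π : C →* PSU 6 F 2} {z : C} {lift : (Fin 6 → F) → C}

/-- `w` is an isotropic vector orthogonal to `v` which is not a multiple of `v` -/
structure AdmV (v w : Fin 6 → F) : Prop where
  iso : hermForm 6 F 2 w w = 0
  perp : hermForm 6 F 2 w v = 0
  indep : ¬ ∃ c : F, w = c • v

theorem AdmV.map (hF : Fintype.card F = 2 ^ 2) {v w : Fin 6 → F} (h : AdmV v w) {g : SU 6 F 2}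
    {k : F} (hk : k ≠ 0) (hg : act g v = k • u) : Adm (k⁻¹ • act g w) where
  iso := by rw [herm_smul_left, herm_smul_right, herm_act, h.iso, mul_zero, mul_zero]
  perp := by
    have h1 : hermForm 6 F 2 (act g w) (act g v) = 0 := by rw [herm_act, h.perp]
    rw [hg, herm_smul_right] at h1
    rw [herm_smul_left, (mul_eq_zero.1 h1).resolve_left (pow_ne_zero _ hk), mul_zero]
  indep := by
    rintro ⟨c, hc⟩
    apply h.indep
    refine ⟨c, ?_⟩
    apply act_injective g
    rw [act_smul, hg, smul_comm, ← hc, smul_smul, mul_inv_cancel₀ hk, one_smul]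

theorem hept_of (L : Lab hF π z z lift) {v a b c : Fin 6 → F} (hv0 : v ≠ 0)
    (hv : hermForm 6 F 2 v v = 0) (ha : AdmV v a) (hb : AdmV v b) (hc : AdmV v c)
    (h : lift a * lift (a + v) * (lift b * lift (b + v)) * (lift c * lift (c + v)) = z) :
    Hept lift z := by
  obtain ⟨g, k, hk, hg⟩ := exists_map hF v u hv0 (u_ne hF) hv (hu hF)
  obtain ⟨x, hx⟩ := L.ext.surj (pr 6 F 2 g)
  have key : ∀ w, AdmV v w → x * lift w * x⁻¹ = lift (k⁻¹ • act g w) ∧
      x * lift (w + v) * x⁻¹ = lift (k⁻¹ • act g w + (1 : F) • u) := by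
    intro w hw
    have hw0 : w ≠ 0 := fun h0 => hw.indep ⟨0, by rw [h0, zero_smul]⟩
    have hA := hw.map hF hk hg
    have hA' := hA.add hF 1
    have e : k • (k⁻¹ • act g w) = act g w := by rw [smul_smul, mul_inv_cancel₀ hk, one_smul]
    have e' : k • (k⁻¹ • act g w + (1 : F) • u) = act g (w + v) := by
      rw [smul_add, e, act_add, hg, one_smul]
    constructor
    · rw [L.conj x g w hx hw0 hw.iso]
      conv_lhs => rw [← e]
      exact L.smul _ k hA.iso hk
    · have h1 : hermForm 6 F 2 (w + v) (w + v) = 0 := by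
        rw [herm_add_left, herm_add_right hF, herm_add_right hF, hw.iso, hw.perp,
          herm_eq_zero_swap hF hw.perp, hv]
        ring
      have h0 : w + v ≠ 0 := by
        intro h0
        apply hw.indep
        refine ⟨1, ?_⟩
        rw [one_smul]
        have := congrArg (fun y => y + v) h0
        simp only [add_assoc, vadd_self hF, add_zero, zero_add] at this
        exact this
      rw [L.conj x g _ hx h0 h1, ← e']
      exact L.smul _ k hA'.iso hk
  refine ⟨k⁻¹ • act g a, k⁻¹ • act g b, k⁻¹ • act g c, ha.map hF hk hg, hb.map hF hk hg,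
    hc.map hF hk hg, ?_⟩
  rw [← (key a ha).1, ← (key a ha).2, ← (key b hb).1, ← (key b hb).2, ← (key c hc).1,
    ← (key c hc).2]
  have h1 : x * z * x⁻¹ = z := by rw [L.ext.comm, mul_inv_cancel_right]
  rw [← h1]
  conv_rhs => rw [← h]
  group

end Abs

/-! ### The group on 3510 points -/

open Cfsg.Agent.Fischer Cfsg.Agent.Fischer.Cert Cfsg.Agent.Fischer.Abstract
  Cfsg.Agent.Fischer.Centralizer Cfsg.Agent.Fischer.Group22 Cfsg.Agent.Fischer.Rank22
  Cfsg.Agent.Fischer.Vec22 Cfsg.Agent.Fischer.Unit22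
open Cfsg.Agent.SporRec.GF4 Cfsg.Agent.R01.Fi22Loc

/-- the point orthogonal to the six points -/
def pv : Link R := mkLink 2944 (by decide) (by decide)
def l1 : Link R := mkLink 2835 (by decide) (by decide)
def l2 : Link R := mkLink 2963 (by decide) (by decide)
def l3 : Link R := mkLink 2924 (by decide) (by decide)
def l4 : Link R := mkLink 2830 (by decide) (by decide)
def l5 : Link R := mkLink 2817 (by decide) (by decide)
def l6 : Link R := mkLink 2827 (by decide) (by decide)

theorem vec_a : P.vec l1 = P.vec l5 + P.vec pv := by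
  funext i
  fin_cases i <;> decide +kernel

theorem vec_b : P.vec l4 = P.vec l6 + P.vec pv := by
  funext i
  fin_cases i <;> decide +kernel

theorem vec_c : P.vec l3 = P.vec l2 + P.vec pv := by
  funext i
  fin_cases i <;> decide +kernel

theorem sixL_eq : sixL = [l2, l5, l1, l6, l4, l3] := rfl

theorem perp_of {x y : Link R} (h : isZ (herm (vx (x.1 : X).1) (vx (y.1 : X).1)) = true) :
    hermForm 6 F4 2 (P.vec x) (P.vec y) = 0 := by
  have h2 : hermForm 6 F4 2 (P.vec x) (P.vec y) = herm (vx (x.1 : X).1) (vx (y.1 : X).1) :=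
    herm_eq _ _
  rw [h2, ← isZ_iff]
  exact h

theorem perp_a : hermForm 6 F4 2 (P.vec l5) (P.vec pv) = 0 := perp_of (by decide +kernel)
theorem perp_b : hermForm 6 F4 2 (P.vec l6) (P.vec pv) = 0 := perp_of (by decide +kernel)
theorem perp_c : hermForm 6 F4 2 (P.vec l2) (P.vec pv) = 0 := perp_of (by decide +kernel)
theorem perp_ca : hermForm 6 F4 2 (P.vec l2) (P.vec l5) = 0 := perp_of (by decide +kernel)
theorem perp_ca' : hermForm 6 F4 2 (P.vec l2) (P.vec l1) = 0 := perp_of (by decide +kernel)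
theorem perp_cb : hermForm 6 F4 2 (P.vec l2) (P.vec l6) = 0 := perp_of (by decide +kernel)
theorem perp_cb' : hermForm 6 F4 2 (P.vec l2) (P.vec l4) = 0 := perp_of (by decide +kernel)

theorem admV {x : Link R} (hp : hermForm 6 F4 2 (P.vec x) (P.vec pv) = 0) (hne : x ≠ pv) :
    AdmV (P.vec pv) (P.vec x) where
  iso := P.iso x
  perp := hp
  indep := by
    rintro ⟨c, hc⟩
    exact hne (P.uniq _ _ c hc)

theorem ne_pv {x : Link R} (h : (x.1 : X).1 ≠ 2944) : x ≠ pv := by
  rintro rfl
  exact h rfl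

/-- **The labelling at the base transposition, with the heptad relation.** -/
theorem exists_lift : ∃ lift : (Fin 6 → F4) → C R,
    Lab hF π (zel (R.t R.x0)) (zel (R.t R.x0)) lift ∧ (∀ y, lift (P.vec y) = τ y) ∧
      Hept lift (zel (R.t R.x0)) := by
  obtain ⟨lift, L, hl⟩ := Cfsg.Agent.R01.Fi22Loc.exists_lift
  refine ⟨lift, L, hl, ?_⟩
  refine hept_of L (P.ne pv) (P.iso pv) (admV perp_a (ne_pv (by decide)))
    (admV perp_b (ne_pv (by decide))) (admV perp_c (ne_pv (by decide))) ?_
  rw [← vec_a, ← vec_b, ← vec_c]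
  have h := prod_sixL
  rw [sixL_eq] at h
  simp only [List.map_cons, List.map_nil, List.prod_cons, List.prod_nil, mul_one, ← hl] at h
  rw [← h]
  have hcomm : ∀ {x y : Link R}, hermForm 6 F4 2 (P.vec x) (P.vec y) = 0 →
      lift (P.vec x) * lift (P.vec y) = lift (P.vec y) * lift (P.vec x) := by
    intro x y h
    exact (L.commute_iff (P.iso _) (P.iso _) (P.ne _) (P.ne _)).2 h
  have e1 := hcomm perp_ca
  have e2 := hcomm perp_ca'
  have e3 := hcomm perp_cb
  have e4 := hcomm perp_cb'
  calc lift (P.vec l5) * lift (P.vec l1) * (lift (P.vec l6) * lift (P.vec l4)) *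
        (lift (P.vec l2) * lift (P.vec l3))
      = lift (P.vec l5) * lift (P.vec l1) * lift (P.vec l6) *
          (lift (P.vec l4) * lift (P.vec l2)) * lift (P.vec l3) := by group
    _ = lift (P.vec l5) * lift (P.vec l1) * (lift (P.vec l6) * lift (P.vec l2)) *
          lift (P.vec l4) * lift (P.vec l3) := by rw [← e4]; group
    _ = lift (P.vec l5) * (lift (P.vec l1) * lift (P.vec l2)) * lift (P.vec l6) *
          lift (P.vec l4) * lift (P.vec l3) := by rw [← e3]; group
    _ = (lift (P.vec l5) * lift (P.vec l2)) * lift (P.vec l1) * lift (P.vec l6) *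
          lift (P.vec l4) * lift (P.vec l3) := by rw [← e2]; group
    _ = _ := by rw [← e1]; group

end Cfsg.Agent.KFacts.FiTT.Hept
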