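import Cfsg.Agent.R01.PSUSix

/-!
# The stabiliser of an isotropic vector in `SU (m + 2) F 2`

`lev : Stab → SU m F 2`, the action on `u0^⊥ / u0`; its kernel is generated by the transvection `T u0` and the
products of two transvections with centres `w`, `w + c u0`.
-/

set_option autoImplicit false
set_option linter.unusedSectionVars false

namespace Cfsg.Agent.KFacts.FiTT.Levi

open Cfsg Cfsg.Agent.LieClassical.HermBasic Cfsg.Agent.ClassicalGeometry.UnitTransv
open Cfsg.Agent.SporadicStructure.UnitTwo Cfsg.Agent.R01.PSUSix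
open scoped Matrix

section Top

variable {F : Type*} [Field F] {m : ℕ}

/-- The first `m` coordinates. -/
def top (x : Fin (m + 2) → F) : Fin m → F := fun i => x (Fin.castAdd 2 i)

theorem top_apply (x : Fin (m + 2) → F) (i : Fin m) : top x i = x (Fin.castAdd 2 i) := rfl

theorem top_append (x : Fin m → F) (y : Fin 2 → F) : top (Fin.append x y) = x := by
  funext i
  rw [top_apply, Fin.append_left]

theorem top_add (x y : Fin (m + 2) → F) : top (x + y) = top x + top y := rfl

theorem top_smul (c : F) (x : Fin (m + 2) → F) : top (c • x) = c • top x := rfl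

theorem top_u0 : top (u0 F m) = 0 := by rw [u0, top_append]

theorem top_zero : top (0 : Fin (m + 2) → F) = 0 := rfl

/-- The vector `(x, 0, 0)`. -/
def ι (x : Fin m → F) : Fin (m + 2) → F := Fin.append x 0

theorem ι_def (x : Fin m → F) : ι x = Fin.append x 0 := rfl

theorem top_ι (x : Fin m → F) : top (ι x) = x := top_append _ _

theorem ι_add (x y : Fin m → F) : ι (x + y) = ι x + ι y := by
  funext i
  refine Fin.addCases (fun i => ?_) (fun j => ?_) i <;> simp [ι]

theorem ι_smul (c : F) (x : Fin m → F) : ι (c • x) = c • ι x := by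
  funext i
  refine Fin.addCases (fun i => ?_) (fun j => ?_) i <;> simp [ι]

theorem ι_zero : ι (0 : Fin m → F) = 0 := by
  funext i
  refine Fin.addCases (fun i => ?_) (fun j => ?_) i <;> simp [ι]

theorem ι_injective : Function.Injective (ι : (Fin m → F) → _) := fun x y h => by
  rw [← top_ι x, h, top_ι]

theorem herm_ι (x y : Fin m → F) :
    hermForm (m + 2) F 2 (ι x) (ι y) = hermForm m F 2 x y := by
  rw [ι, ι, herm_append, herm_zero_left, add_zero]

theorem herm_ι_left (x : Fin m → F) (y : Fin (m + 2) → F) :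
    hermForm (m + 2) F 2 (ι x) y = hermForm m F 2 x (top y) := by
  rw [herm_def, herm_def, Fin.sum_univ_add]
  simp [ι, top]

end Top

section Stab

variable {F : Type*} [Field F] [Fintype F] {m : ℕ} (hF : Fintype.card F = 2 ^ 2)

variable (F m) in
/-- The stabiliser of `u0`. -/
def Stab : Subgroup (SU (m + 2) F 2) where
  carrier := {g | act g (u0 F m) = u0 F m}
  mul_mem' := by
    intro a b ha hb
    show act (a * b) (u0 F m) = u0 F m
    rw [act_mul, show act b (u0 F m) = u0 F m from hb, show act a (u0 F m) = u0 F m from ha]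
  one_mem' := act_one _
  inv_mem' := by
    intro a ha
    show act a⁻¹ (u0 F m) = u0 F m
    conv_lhs => rw [← show act a (u0 F m) = u0 F m from ha]
    rw [act_inv_act]

theorem mem_Stab {g : SU (m + 2) F 2} : g ∈ Stab F m ↔ act g (u0 F m) = u0 F m := Iff.rfl

include hF

theorem herm_ι_u0 (x : Fin m → F) : hermForm (m + 2) F 2 (ι x) (u0 F m) = 0 := by
  rw [ι, u0, herm_append, herm_zero_left, herm_zero_right hF, add_zero]

/-- the vectors orthogonal to `u0` -/
theorem perp_eq {x : Fin (m + 2) → F} (h : hermForm (m + 2) F 2 x (u0 F m) = 0) :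
    x = ι (top x) + x (Fin.natAdd m 0) • u0 F m := by
  rw [eq_append x, u0, herm_append, herm_zero_right hF, zero_add, herm_def] at h
  simp only [Fin.sum_univ_two, Matrix.cons_val_zero, Matrix.cons_val_one, one_pow, mul_one] at h
  have h1 := eq_of_add_eq_zero hF h
  funext i
  refine Fin.addCases (fun i => ?_) (fun j => ?_) i
  · simp [ι, top, u0]
  · fin_cases j
    · simp [ι, u0]
    · simpa [ι, u0] using h1.symm

theorem herm_top {x y : Fin (m + 2) → F} (hx : hermForm (m + 2) F 2 x (u0 F m) = 0)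
    (hy : hermForm (m + 2) F 2 y (u0 F m) = 0) :
    hermForm m F 2 (top x) (top y) = hermForm (m + 2) F 2 x y := by
  have hy' := herm_eq_zero_swap hF hy
  conv_rhs => rw [perp_eq hF hx]
  rw [herm_add_left, herm_smul_left, hy', mul_zero, add_zero, herm_ι_left]

/-- the action on `u0^⊥ / u0` -/
def topMat (g : SU (m + 2) F 2) : Matrix (Fin m) (Fin m) F := fun i j =>
  ((g : Matrix.SpecialLinearGroup (Fin (m + 2)) F) : Matrix (Fin (m + 2)) (Fin (m + 2)) F)
    (Fin.castAdd 2 i) (Fin.castAdd 2 j)

omit hF in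
theorem topMat_mulVec (g : SU (m + 2) F 2) (y : Fin m → F) :
    topMat g *ᵥ y = top (act g (ι y)) := by
  funext i
  rw [top_apply, act_def]
  simp only [Matrix.mulVec, dotProduct]
  rw [Fin.sum_univ_add]
  simp [topMat, ι]

theorem top_act {g : SU (m + 2) F 2} (hg : g ∈ Stab F m) {x : Fin (m + 2) → F}
    (hx : hermForm (m + 2) F 2 x (u0 F m) = 0) : top (act g x) = topMat g *ᵥ top x := by
  rw [topMat_mulVec]
  conv_lhs => rw [perp_eq hF hx]
  rw [act_add, act_smul, mem_Stab.1 hg, top_add, top_smul, top_u0, smul_zero, add_zero]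

theorem act_perp {g : SU (m + 2) F 2} (hg : g ∈ Stab F m) {x : Fin (m + 2) → F}
    (hx : hermForm (m + 2) F 2 x (u0 F m) = 0) :
    hermForm (m + 2) F 2 (act g x) (u0 F m) = 0 := by
  conv_lhs => rw [← mem_Stab.1 hg]
  rw [herm_act, hx]

theorem topMat_mul {g h : SU (m + 2) F 2} (hg : g ∈ Stab F m) (hh : h ∈ Stab F m) :
    topMat (g * h) = topMat g * topMat h := by
  apply Matrix.toLin'.injective
  apply LinearMap.ext
  intro y
  rw [Matrix.toLin'_apply, Matrix.toLin'_apply, ← Matrix.mulVec_mulVec, topMat_mulVec,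
    topMat_mulVec h, act_mul, top_act hF hg (act_perp hF hh (herm_ι_u0 hF y))]

theorem topMat_herm {g : SU (m + 2) F 2} (hg : g ∈ Stab F m) (x y : Fin m → F) :
    hermForm m F 2 (topMat g *ᵥ x) (topMat g *ᵥ y) = hermForm m F 2 x y := by
  rw [topMat_mulVec, topMat_mulVec, herm_top hF (act_perp hF hg (herm_ι_u0 hF x))
    (act_perp hF hg (herm_ι_u0 hF y)), herm_act, herm_ι_left, top_ι]

theorem T_mem_Stab {w : Fin (m + 2) → F} (hw : hermForm (m + 2) F 2 w w = 0)
    (hwu : hermForm (m + 2) F 2 w (u0 F m) = 0) : T hF w hw ∈ Stab F m := by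
  rw [mem_Stab]
  exact act_T_of_perp hF w hw _ (herm_eq_zero_swap hF hwu)

theorem top_iso {w : Fin (m + 2) → F} (hw : hermForm (m + 2) F 2 w w = 0)
    (hwu : hermForm (m + 2) F 2 w (u0 F m) = 0) : hermForm m F 2 (top w) (top w) = 0 := by
  rw [herm_top hF hwu hwu, hw]

theorem topMat_T {w : Fin (m + 2) → F} (hw : hermForm (m + 2) F 2 w w = 0)
    (hwu : hermForm (m + 2) F 2 w (u0 F m) = 0) : topMat (T hF w hw) =
    ((T hF (top w) (top_iso hF hw hwu) : Matrix.SpecialLinearGroup (Fin m) F) :
      Matrix (Fin m) (Fin m) F) := by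
  apply Matrix.toLin'.injective
  apply LinearMap.ext
  intro y
  rw [Matrix.toLin'_apply, Matrix.toLin'_apply, topMat_mulVec, act_T, top_add, top_smul, top_ι,
    herm_ι_left, ← act_T hF (top w) (top_iso hF hw hwu) y]
  rfl

theorem topMat_one : topMat (1 : SU (m + 2) F 2) = 1 := by
  apply Matrix.toLin'.injective
  apply LinearMap.ext
  intro y
  rw [Matrix.toLin'_apply, Matrix.toLin'_apply, topMat_mulVec, act_one, top_ι, Matrix.one_mulVec]

theorem Ru_le_Stab : Ru hF (u0 F m) ≤ Stab F m := fun _ hg => act_of_mem_Ru hF hg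

theorem Stab_le (hm : 4 ≤ m) : Stab F m ≤ Ru hF (u0 F m) := by
  obtain ⟨ω, hω⟩ := exists_omega hF
  intro g hg
  exact stab_le hF hω hm hg

theorem det_topMat (hm : 4 ≤ m) {g : SU (m + 2) F 2} (hg : g ∈ Stab F m) :
    (topMat g).det = 1 := by
  refine Subgroup.closure_induction (p := fun g _ => (topMat g).det = 1) ?_ ?_ ?_ ?_
    (Stab_le hF hm hg)
  · rintro g ⟨w, hw, hwu, rfl⟩
    rw [topMat_T hF hw hwu]
    exact (T hF (top w) (top_iso hF hw hwu) : Matrix.SpecialLinearGroup (Fin m) F).det_coe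
  · rw [topMat_one hF, Matrix.det_one]
  · intro a b ha hb ha' hb'
    rw [topMat_mul hF (Ru_le_Stab hF ha) (Ru_le_Stab hF hb), Matrix.det_mul, ha', hb', mul_one]
  · intro a ha ha'
    have h1 := topMat_mul hF (Ru_le_Stab hF ha) (Ru_le_Stab hF (inv_mem ha))
    rw [mul_inv_cancel, topMat_one hF] at h1
    have h2 := congrArg Matrix.det h1
    rw [Matrix.det_one, Matrix.det_mul, ha', one_mul] at h2
    exact h2.symm

/-- **The Levi projection.** -/
noncomputable def lev (hm : 4 ≤ m) : Stab F m →* SU m F 2 where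
  toFun g := mk (topMat (g : SU (m + 2) F 2)) (det_topMat hF hm g.2) (topMat_herm hF g.2)
  map_one' := by
    apply ext_act
    intro x
    rw [act_mk, act_one]
    show topMat (1 : SU (m + 2) F 2) *ᵥ x = x
    rw [topMat_one hF, Matrix.one_mulVec]
  map_mul' g h := by
    apply ext_act
    intro x
    rw [act_mul, act_mk, act_mk, act_mk, Matrix.mulVec_mulVec]
    show topMat ((g : SU (m + 2) F 2) * (h : SU (m + 2) F 2)) *ᵥ x = _
    rw [topMat_mul hF g.2 h.2]

theorem act_lev (hm : 4 ≤ m) (g : Stab F m) (x : Fin m → F) :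
    act (lev hF hm g) x = top (act (g : SU (m + 2) F 2) (ι x)) := by
  rw [← topMat_mulVec]
  exact act_mk _ _ _ _

theorem act_lev_top (hm : 4 ≤ m) (g : Stab F m) {x : Fin (m + 2) → F}
    (hx : hermForm (m + 2) F 2 x (u0 F m) = 0) :
    act (lev hF hm g) (top x) = top (act (g : SU (m + 2) F 2) x) := by
  rw [top_act hF g.2 hx]
  exact act_mk _ _ _ _

theorem lev_T (hm : 4 ≤ m) {w : Fin (m + 2) → F} (hw : hermForm (m + 2) F 2 w w = 0)
    (hwu : hermForm (m + 2) F 2 w (u0 F m) = 0) :
    lev hF hm ⟨T hF w hw, T_mem_Stab hF hw hwu⟩ = T hF (top w) (top_iso hF hw hwu) := by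
  apply ext_act
  intro x
  rw [act_lev, act_T, act_T, top_add, top_smul, top_ι, herm_ι_left]

theorem emb_mem (g0 : SU m F 2) : emb 2 g0 ∈ Stab F m := by
  rw [mem_Stab, u0, act_emb, act_zero]

theorem lev_emb (hm : 4 ≤ m) (g0 : SU m F 2) : lev hF hm ⟨emb 2 g0, emb_mem hF g0⟩ = g0 := by
  apply ext_act
  intro x
  rw [act_lev, ι_def, act_emb, top_append]

theorem lev_surjective (hm : 4 ≤ m) : Function.Surjective (lev (F := F) hF hm) := fun g0 =>
  ⟨⟨emb 2 g0, emb_mem hF g0⟩, lev_emb hF hm g0⟩

/-! ### The unipotent radical -/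

/-- the elements with parameter `a`: `x ↦ x + h(x, a) u0` on the orthogonal complement of `u0` -/
def Par (g : SU (m + 2) F 2) (a : Fin m → F) : Prop :=
  act g (u0 F m) = u0 F m ∧ ∀ y : Fin m → F, act g (ι y) = ι y + hermForm m F 2 y a • u0 F m

theorem Par.mul {g h : SU (m + 2) F 2} {a b : Fin m → F} (hg : Par g a) (hh : Par h b) :
    Par (g * h) (a + b) := by
  refine ⟨by rw [act_mul, hh.1, hg.1], fun y => ?_⟩
  rw [act_mul, hh.2, act_add, act_smul, hg.1, hg.2, herm_add_right hF, add_smul]
  abel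

theorem Par.inv {g : SU (m + 2) F 2} {a : Fin m → F} (hg : Par g a) : Par g⁻¹ a := by
  have h0 : act g⁻¹ (u0 F m) = u0 F m := by
    conv_lhs => rw [← hg.1]
    rw [act_inv_act]
  refine ⟨h0, fun y => ?_⟩
  apply act_injective g
  rw [act_act_inv, act_add, act_smul, hg.1, hg.2, add_assoc, ← add_smul, add_self hF, zero_smul,
    add_zero]

theorem Par.one : Par (1 : SU (m + 2) F 2) 0 :=
  ⟨act_one _, fun y => by rw [act_one, herm_zero_right hF, zero_smul, add_zero]⟩

theorem exists_par (hm : 4 ≤ m) {g : Stab F m} (hg : lev hF hm g = 1) :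
    ∃ a, Par (g : SU (m + 2) F 2) a := by
  set φ : (Fin m → F) → F := fun y => act (g : SU (m + 2) F 2) (ι y) (Fin.natAdd m 0) with hφ
  have hact : ∀ y, act (g : SU (m + 2) F 2) (ι y) = ι y + φ y • u0 F m := by
    intro y
    have h1 := perp_eq hF (act_perp hF g.2 (herm_ι_u0 hF y))
    rw [← act_lev hF hm g y, hg, act_one] at h1
    exact h1
  have hadd : ∀ x y, φ (x + y) = φ x + φ y := by
    intro x y
    simp only [hφ, ι_add, act_add, Pi.add_apply]
  have hsmul : ∀ (c : F) y, φ (c • y) = c * φ y := by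
    intro c y
    simp only [hφ, ι_smul, act_smul, Pi.smul_apply, smul_eq_mul]
  have hsum : ∀ y : Fin m → F, φ y = ∑ i, y i * φ (Pi.single i 1) := by
    intro y
    let L : (Fin m → F) →ₗ[F] F :=
      { toFun := φ
        map_add' := hadd
        map_smul' := fun c y => by rw [hsmul]; rfl }
    have h1 : L y = ∑ i, y i • L (Pi.single i 1) := by
      conv_lhs => rw [pi_eq_sum_univ' y]
      rw [map_sum]
      simp only [map_smul]
    exact h1
  refine ⟨fun i => φ (Pi.single i 1) ^ 2, mem_Stab.1 g.2, fun y => ?_⟩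
  rw [hact, hsum y, herm_def]
  congr 2
  refine Finset.sum_congr rfl fun i _ => ?_
  have := pow_four hF (φ (Pi.single i 1))
  linear_combination (-y i) * this

theorem Par.lev_eq (hm : 4 ≤ m) {g : Stab F m} {a : Fin m → F}
    (h : Par (g : SU (m + 2) F 2) a) : lev hF hm g = 1 := by
  apply ext_act
  intro x
  rw [act_lev, h.2, act_one, top_add, top_smul, top_u0, smul_zero, add_zero, top_ι]

/-- an element acting trivially on the orthogonal complement of `u0` -/
theorem eq_of_par_zero (hm : 1 ≤ m) {g : SU (m + 2) F 2} (h : Par g 0) :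
    g = 1 ∨ g = T hF (u0 F m) (herm_u0 hF) := by
  obtain ⟨ω, hω⟩ := exists_omega hF
  have hperp : ∀ x, hermForm (m + 2) F 2 x (u0 F m) = 0 → act g x = x := by
    intro x hx
    conv_lhs => rw [perp_eq hF hx]
    rw [act_add, act_smul, h.1, h.2, herm_zero_right hF, zero_smul, add_zero, ← perp_eq hF hx]
  set v := v0 m ω with hv
  have hvu := herm_v0_u0 (F := F) hF hω (m := m)
  have huv := herm_u0_v0 (F := F) hF hω (m := m)
  have hvv := herm_v0 (F := F) hF hω (m := m)
  have huu := herm_u0 (F := F) hF (m := m)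
  obtain ⟨t, ht⟩ : ∃ t : F, act g v + v = t • u0 F m := by
    by_contra hcon
    obtain ⟨a, ha, ha'⟩ := exists_perp_ne hF (u0_ne_zero (F := F) hF (m := m)) hcon
    apply ha'
    have h1 : hermForm (m + 2) F 2 (act g v) a = hermForm (m + 2) F 2 v a := by
      conv_lhs => rw [← hperp a ha]
      rw [herm_act]
    rw [herm_add_left, h1]
    exact add_self hF _
  have hgv : act g v = v + t • u0 F m := by
    have := congrArg (fun x => x + v) ht
    simp only [add_assoc, vadd_self hF, add_zero] at this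
    rw [this]
    exact add_comm _ _
  have ht2 : t ^ 2 = t := by
    have h1 : hermForm (m + 2) F 2 (act g v) (act g v) = 0 := by rw [herm_act, hvv]
    rw [hgv, herm_add_left, herm_add_right hF, herm_add_right hF, herm_smul_left, herm_smul_right,
      herm_smul_left, herm_smul_right, hvv, hvu, huv, huu] at h1
    have h2 := two_eq_zero hF
    linear_combination h1 - t * h2
  have hdec : ∀ x : Fin (m + 2) → F, ∃ y : Fin (m + 2) → F, ∃ c : F,
      hermForm (m + 2) F 2 y (u0 F m) = 0 ∧ x = y + c • v := by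
    intro x
    refine ⟨x + hermForm (m + 2) F 2 x (u0 F m) • v, hermForm (m + 2) F 2 x (u0 F m), ?_, ?_⟩
    · rw [herm_add_left, herm_smul_left, hvu, mul_one]
      exact add_self hF _
    · rw [add_assoc, vadd_self hF, add_zero]
  rcases zero_or_one_of_fixed hF ht2 with rfl | rfl
  · left
    apply ext_act
    intro x
    obtain ⟨y, c, hy, rfl⟩ := hdec x
    rw [act_add, act_smul, hperp y hy, hgv, zero_smul, add_zero, act_one]
  · right
    apply ext_act
    intro x
    obtain ⟨y, c, hy, rfl⟩ := hdec x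
    rw [act_add, act_smul, hperp y hy, hgv, act_T, herm_add_left, hy, zero_add, herm_smul_left, hvu,
      mul_one, one_smul, smul_add, add_assoc]

/-- a product of two transvections -/
theorem iso_add {w : Fin (m + 2) → F} (hw : hermForm (m + 2) F 2 w w = 0)
    (hwu : hermForm (m + 2) F 2 w (u0 F m) = 0) (c : F) :
    hermForm (m + 2) F 2 (w + c • u0 F m) (w + c • u0 F m) = 0 := by
  rw [herm_add_left, herm_add_right hF, herm_add_right hF, herm_smul_left, herm_smul_right,
    herm_smul_left, herm_smul_right, hw, hwu, herm_eq_zero_swap hF hwu, herm_u0 hF]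
  ring

theorem perp_add {w : Fin (m + 2) → F} (hwu : hermForm (m + 2) F 2 w (u0 F m) = 0) (c : F) :
    hermForm (m + 2) F 2 (w + c • u0 F m) (u0 F m) = 0 := by
  rw [herm_add_left, herm_smul_left, hwu, herm_u0 hF]
  ring

theorem act_pair {w : Fin (m + 2) → F} (hw : hermForm (m + 2) F 2 w w = 0)
    (hwu : hermForm (m + 2) F 2 w (u0 F m) = 0) (c : F) {x : Fin (m + 2) → F}
    (hx : hermForm (m + 2) F 2 x (u0 F m) = 0) :
    act (T hF w hw * T hF (w + c • u0 F m) (iso_add hF hw hwu c)) x =
      x + (hermForm (m + 2) F 2 x w * c) • u0 F m := by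
  have e1 : hermForm (m + 2) F 2 x (w + c • u0 F m) = hermForm (m + 2) F 2 x w := by
    rw [herm_add_right hF, herm_smul_right, hx, mul_zero, add_zero]
  have e2 : hermForm (m + 2) F 2 (w + c • u0 F m) w = 0 := by
    rw [herm_add_left, herm_smul_left, herm_eq_zero_swap hF hwu, hw, mul_zero, add_zero]
  rw [act_mul, act_T hF (w + c • u0 F m), e1, act_T, herm_add_left, herm_smul_left, e2, mul_zero,
    add_zero]
  have h2 := vadd_self hF (hermForm (m + 2) F 2 x w • w)
  rw [smul_add, smul_smul]
  calc x + (hermForm (m + 2) F 2 x w • w + (hermForm (m + 2) F 2 x w * c) • u0 F m) +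
        hermForm (m + 2) F 2 x w • w
      = x + (hermForm (m + 2) F 2 x w * c) • u0 F m +
        (hermForm (m + 2) F 2 x w • w + hermForm (m + 2) F 2 x w • w) := by abel
    _ = _ := by rw [h2, add_zero]

theorem pair_par {w : Fin (m + 2) → F} (hw : hermForm (m + 2) F 2 w w = 0)
    (hwu : hermForm (m + 2) F 2 w (u0 F m) = 0) (c : F) :
    Par (T hF w hw * T hF (w + c • u0 F m) (iso_add hF hw hwu c)) (c ^ 2 • top w) := by
  refine ⟨?_, fun y => ?_⟩
  · rw [act_pair hF hw hwu c (herm_u0 hF), herm_eq_zero_swap hF hwu, zero_mul, zero_smul, add_zero]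
  · rw [act_pair hF hw hwu c (herm_ι_u0 hF y), herm_ι_left, herm_smul_right, ← pow_mul]
    have : c ^ (2 * 2) = c := pow_four hF c
    rw [this, mul_comm]

variable (F m) in
/-- The group generated by the products of two transvections in the same block. -/
def Q : Subgroup (SU (m + 2) F 2) :=
  Subgroup.closure {g | ∃ (w : Fin (m + 2) → F) (hw : hermForm (m + 2) F 2 w w = 0)
    (hwu : hermForm (m + 2) F 2 w (u0 F m) = 0) (c : F), w ≠ 0 ∧ w + c • u0 F m ≠ 0 ∧
    g = T hF w hw * T hF (w + c • u0 F m) (iso_add hF hw hwu c)}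

/-- every parameter occurs in `Q` -/
theorem exists_mem_Q (hm : 2 ≤ m) (a : Fin m → F) : ∃ r ∈ Q F m hF, Par r a := by
  obtain ⟨ω, hω⟩ := exists_omega hF
  have hω0 : ω ≠ 0 := by
    rintro rfl
    simp at hω
  have hiso : ∀ a : Fin m → F, hermForm m F 2 a a = 0 → ∃ r ∈ Q F m hF, Par r a := by
    intro a ha
    by_cases ha0 : a = 0
    · subst ha0
      exact ⟨1, one_mem _, Par.one hF⟩
    have hw : hermForm (m + 2) F 2 (ι a) (ι a) = 0 := by rw [herm_ι_left, top_ι, ha]
    have hwu := herm_ι_u0 hF a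
    refine ⟨_, Subgroup.subset_closure ⟨ι a, hw, hwu, 1, ?_, ?_, rfl⟩, ?_⟩
    · intro h
      apply ha0
      rw [← top_ι a, h, top_zero]
    · intro h
      apply ha0
      have := congrArg top h
      rwa [top_add, top_smul, top_u0, smul_zero, add_zero, top_ι, top_zero] at this
    · have := pair_par hF hw hwu 1
      have h1 : ((1 : F) ^ 2) • top (ι a) = a := by rw [one_pow, one_smul, top_ι]
      rw [h1] at this
      exact this
  have hadd : ∀ a b : Fin m → F, (∃ r ∈ Q F m hF, Par r a) → (∃ r ∈ Q F m hF, Par r b) →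
      ∃ r ∈ Q F m hF, Par r (a + b) := by
    rintro a b ⟨r, hr, hra⟩ ⟨s, hs, hsb⟩
    exact ⟨r * s, mul_mem hr hs, hra.mul hF hsb⟩
  have hsingle : ∀ (i : Fin m) (t : F), ∃ r ∈ Q F m hF, Par r (Pi.single i t) := by
    intro i t
    by_cases ht : t = 0
    · subst ht
      rw [Pi.single_zero]
      exact ⟨1, one_mem _, Par.one hF⟩
    obtain ⟨j, hj⟩ : ∃ j : Fin m, j ≠ i := by
      have : Nontrivial (Fin m) := Fin.nontrivial_iff_two_le.2 hm
      exact exists_ne i
    have hi : ∀ s : F, s ≠ 0 → hermForm m F 2 (Pi.single i s + Pi.single j 1)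
        (Pi.single i s + Pi.single j 1) = 0 := by
      intro s hs
      rw [herm_add_left, herm_single_left, herm_single_left]
      simp only [Pi.add_apply, Pi.single_eq_same, Pi.single_eq_of_ne hj, Pi.single_eq_of_ne hj.symm,
        add_zero, zero_add]
      have h3 := pow_three hF hs
      linear_combination h3 + two_eq_zero hF
    have h1 := hadd _ _ (hiso _ (hi (ω * t) (mul_ne_zero hω0 ht)))
      (hiso _ (hi (ω ^ 2 * t) (mul_ne_zero (pow_ne_zero 2 hω0) ht)))
    have h2 : (Pi.single i (ω * t) + Pi.single j 1 + (Pi.single i (ω ^ 2 * t) + Pi.single j 1) :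
        Fin m → F) = Pi.single i t := by
      have h3 : (Pi.single i (ω * t) + Pi.single j 1 + (Pi.single i (ω ^ 2 * t) + Pi.single j 1) :
          Fin m → F) = Pi.single i (ω * t + ω ^ 2 * t) + Pi.single j (1 + 1) := by
        rw [Pi.single_add, Pi.single_add]
        abel
      rw [h3, add_self hF, Pi.single_zero, add_zero]
      congr 1
      linear_combination t * hω - t * two_eq_zero hF
    rwa [h2] at h1
  have hsum : ∀ (s : Finset (Fin m)), ∃ r ∈ Q F m hF, Par r (∑ i ∈ s, Pi.single i (a i)) := by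
    classical
    intro s
    induction s using Finset.induction_on with
    | empty => exact ⟨1, one_mem _, Par.one hF⟩
    | insert i s his ih =>
      rw [Finset.sum_insert his]
      exact hadd _ _ (hsingle i (a i)) ih
  have := hsum Finset.univ
  rwa [Finset.univ_sum_single] at this

/-- **The kernel of the Levi projection.** -/
theorem exists_mem_Q_of_lev (hm : 4 ≤ m) {g : Stab F m} (hg : lev hF hm g = 1) :
    ∃ r ∈ Q F m hF, (g : SU (m + 2) F 2) = r ∨
      (g : SU (m + 2) F 2) = r * T hF (u0 F m) (herm_u0 hF) := by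
  obtain ⟨a, ha⟩ := exists_par hF hm hg
  obtain ⟨r, hr, hra⟩ := exists_mem_Q hF (by omega) a
  refine ⟨r, hr, ?_⟩
  have h1 := (hra.inv hF).mul hF ha
  have h2 : a + a = 0 := vadd_self hF a
  rw [h2] at h1
  rcases eq_of_par_zero hF (by omega) h1 with h3 | h3
  · left
    exact (inv_mul_eq_one.1 h3).symm
  · right
    rw [← h3, mul_inv_cancel_left]

end Stab

end Cfsg.Agent.KFacts.FiTT.Levi
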