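import Cfsg.Agent.KFacts.FiTT.Cent
import Cfsg.Agent.S0283

/-!
# The centraliser of two commuting transpositions: the radical, perfectness, the centre
-/

set_option autoImplicit false
set_option linter.unusedSectionVars false

namespace Cfsg.Agent.KFacts.FiTT.Radical

open Cfsg Cfsg.Agent.LieClassical.HermBasic Cfsg.Agent.ClassicalGeometry.UnitTransv
open Cfsg.Agent.SporadicStructure.UnitTwo Cfsg.Agent.R01.PSUSix
open Cfsg.Agent.ClassicalGeometry.UnitAutBasic (tau pr pr_surjective)
open Cfsg.Agent.R01.Lifts Cfsg.Agent.R01.Label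
open Cfsg.Agent.KFacts.FiTT.Levi Cfsg.Agent.KFacts.FiTT.Cent

section Vectors

variable {F : Type*} [Field F] [Fintype F] (hF : Fintype.card F = 2 ^ 2)
include hF

theorem adm_ι {a : Fin 4 → F} (h0 : a ≠ 0) (ha : hermForm 4 F 2 a a = 0) : Adm (ι a : Fin 6 → F) where
  iso := by
    have := herm_ι_left (m := 4) a (ι a)
    rw [top_ι, ha] at this
    exact this
  perp := herm_ι_u0 (m := 4) hF a
  indep := by
    rintro ⟨c, hc⟩
    apply h0
    have := congrArg (top (m := 4)) hc
    rwa [top_ι, Levi.top_smul, top_u0, smul_zero] at this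

omit [Fintype F] hF in
/-- the vector `(1, 1, 0, 0)` -/
def ea (F : Type*) [Field F] : Fin 4 → F := ![1, 1, 0, 0]

omit [Fintype F] hF in
/-- the vector `(t, t², 0, 0)` -/
def eb {F : Type*} [Field F] (t : F) : Fin 4 → F := ![t, t ^ 2, 0, 0]

theorem herm_ea : hermForm 4 F 2 (ea F) (ea F) = 0 := by
  rw [herm_def]
  simp [ea, Fin.sum_univ_four]
  linear_combination two_eq_zero hF

omit [Fintype F] hF in
theorem ea_ne : ea F ≠ 0 := by
  intro h
  have := congrFun h 0
  simp [ea] at this

theorem herm_ea_eb {t : F} (ht : t ^ 2 + t + 1 = 0) : hermForm 4 F 2 (ea F) (eb t) = 1 := by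
  have h4 := pow_four hF t
  rw [herm_def]
  simp [ea, eb, Fin.sum_univ_four]
  linear_combination ht + h4 - two_eq_zero hF

theorem herm_eb_ea {t : F} (ht : t ^ 2 + t + 1 = 0) : hermForm 4 F 2 (eb t) (ea F) = 1 := by
  rw [herm_swap hF (ea F), herm_ea_eb hF ht, one_pow]

theorem herm_eb {t : F} (ht : t ^ 2 + t + 1 = 0) : hermForm 4 F 2 (eb t) (eb t) = 0 := by
  have h0 : t ≠ 0 := by
    rintro rfl
    simp at ht
  have h3 := pow_three hF h0
  rw [herm_def]
  simp [eb, Fin.sum_univ_four]
  linear_combination (t ^ 3 + 2) * h3 + two_eq_zero hF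

omit [Fintype F] hF in
theorem eb_ne {t : F} (h0 : t ≠ 0) : eb t ≠ 0 := by
  intro h
  have := congrFun h 0
  simp [eb] at this
  exact h0 this

/-- a stabiliser element scaling an isotropic vector -/
theorem exists_scale {t : F} (ht0 : t ≠ 0) :
    ∃ g ∈ Stab F 4, act g (ι (ea F) : Fin 6 → F) = t • (ι (ea F) : Fin 6 → F) := by
  by_cases ht1 : t = 1
  · subst ht1
    exact ⟨1, one_mem _, by rw [act_one, one_smul]⟩
  have ht : t ^ 2 + t + 1 = 0 := by
    have h3 := pow_three hF ht0
    have : (t - 1) * (t ^ 2 + t + 1) = 0 := by linear_combination h3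
    rcases mul_eq_zero.1 this with h | h
    · exact absurd (by linear_combination h) ht1
    · exact h
  have h2 := two_eq_zero hF
  have h4 := pow_four hF t
  -- the vectors `a`, `b`, `c = a + t b + y`
  have hg : ∃ g0 : SU 4 F 2, act g0 (ea F) = t • ea F := by
    set a := ea F with ha
    set b := eb t with hb
    set y : Fin 4 → F := ![0, 0, 1, 0] with hy
    have haa : hermForm 4 F 2 a a = 0 := herm_ea hF
    have hbb : hermForm 4 F 2 b b = 0 := herm_eb hF ht
    have hab : hermForm 4 F 2 a b = 1 := herm_ea_eb hF ht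
    have hba : hermForm 4 F 2 b a = 1 := herm_eb_ea hF ht
    have hyy : hermForm 4 F 2 y y = 1 := by
      rw [herm_def]; simp [hy, Fin.sum_univ_four]
    have hay : hermForm 4 F 2 a y = 0 := by
      rw [herm_def]; simp [ha, hy, ea, Fin.sum_univ_four]
    have hby : hermForm 4 F 2 b y = 0 := by
      rw [herm_def]; simp [hb, hy, eb, Fin.sum_univ_four]
    have hya := herm_eq_zero_swap hF hay
    have hyb := herm_eq_zero_swap hF hby
    set c := a + t • b + y with hc
    have hcc : hermForm 4 F 2 c c = 0 := by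
      rw [hc]
      simp only [herm_add_left, herm_add_right hF, herm_smul_left, herm_smul_right, haa, hbb, hab,
        hba, hyy, hay, hby, hya, hyb, mul_zero, zero_add, add_zero, mul_one]
      linear_combination ht
    have hbc : hermForm 4 F 2 b c = 1 := by
      rw [hc]
      simp only [herm_add_right hF, herm_smul_right, hbb, hba, hby, mul_zero, add_zero]
    have hcb : hermForm 4 F 2 c b = 1 := by rw [herm_swap hF b, hbc, one_pow]
    have hca : hermForm 4 F 2 c a = t := by
      rw [hc]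
      simp only [herm_add_left, herm_smul_left, haa, hba, hya, mul_one, zero_add, add_zero]
    have hac : hermForm 4 F 2 a c = t ^ 2 := by rw [herm_swap hF c, hca]
    have e1 : hermForm 4 F 2 (a + b) (a + b) = 0 := by
      simp only [herm_add_left, herm_add_right hF, haa, hbb, hab, hba]
      linear_combination h2
    have e2 : hermForm 4 F 2 (b + c) (b + c) = 0 := by
      simp only [herm_add_left, herm_add_right hF, hbb, hcc, hbc, hcb]
      linear_combination h2
    have e3 : hermForm 4 F 2 (c + t • a) (c + t • a) = 0 := by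
      simp only [herm_add_left, herm_add_right hF, herm_smul_left, herm_smul_right, haa, hcc, hca,
        hac]
      linear_combination t ^ 3 * h2
    refine ⟨T hF _ e3 * (T hF _ e2 * T hF _ e1), ?_⟩
    have f1 : act (T hF _ e1) a = b := by
      rw [act_T, herm_add_right hF, haa, hab, zero_add, one_smul, ← add_assoc, vadd_self hF,
        zero_add]
    have f2 : act (T hF _ e2) b = c := by
      rw [act_T, herm_add_right hF, hbb, hbc, zero_add, one_smul, ← add_assoc, vadd_self hF,
        zero_add]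
    have f3 : act (T hF _ e3) c = t • a := by
      rw [act_T, herm_add_right hF, herm_smul_right, hcc, hca, zero_add]
      have : t ^ 2 * t = 1 := by
        have h3 := pow_three hF ht0
        linear_combination h3
      rw [this, one_smul, ← add_assoc, vadd_self hF, zero_add]
    rw [act_mul, act_mul, f1, f2, f3]
  obtain ⟨g0, hg0⟩ := hg
  refine ⟨emb 2 g0, emb_mem (m := 4) hF g0, ?_⟩
  have h1 : act (emb 2 g0) (Fin.append (ea F) 0) = Fin.append (act g0 (ea F)) 0 := act_emb _ _ _
  rw [hg0] at h1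
  exact h1.trans (ι_smul (m := 4) t (ea F))

/-- transitivity on the admissible vectors -/
theorem exists_stab_map {w w' : Fin 6 → F} (hw : Adm w) (hw' : Adm w') :
    ∃ g ∈ Stab F 4, ∃ s : F, s ≠ 0 ∧ act g w = s • w' := by
  obtain ⟨r, hr, c, hc, h⟩ := trans_perp hF (u_ne hF) hw.iso hw'.iso hw.perp hw'.perp hw.indep
    hw'.indep (hu hF)
  exact ⟨r, Ru_le_Stab (m := 4) hF hr, c, hc, h⟩

theorem adm_a : Adm (ι (ea F) : Fin 6 → F) := adm_ι hF ea_ne (herm_ea hF)

/-- transitivity on the admissible vectors, exact -/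
theorem exists_stab_map' {w w' : Fin 6 → F} (hw : Adm w) (hw' : Adm w') {t : F} (ht : t ≠ 0) :
    ∃ g ∈ Stab F 4, act g w = t • w' := by
  obtain ⟨g, hg, s, hs, hgw⟩ := exists_stab_map hF hw (adm_a hF)
  obtain ⟨g', hg', s', hs', hgw'⟩ := exists_stab_map hF (adm_a hF) hw'
  obtain ⟨k, hk, hka⟩ := exists_scale hF (t := t * s⁻¹ * s'⁻¹)
    (mul_ne_zero (mul_ne_zero ht (inv_ne_zero hs)) (inv_ne_zero hs'))
  refine ⟨g' * (k * g), mul_mem hg' (mul_mem hk hg), ?_⟩
  rw [act_mul, act_mul, hgw, act_smul, hka, act_smul, act_smul, hgw', smul_smul, smul_smul]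
  congr 1
  field_simp

end Vectors

variable {C : Type*} [Group C] {F : Type*} [Field F] [Fintype F] {hF : Fintype.card F = 2 ^ 2}
  {π : C →* PSU 6 F 2} {z : C} {lift : (Fin 6 → F) → C}

/-- the relation of a heptad: three pairs of transpositions in three blocks -/
def Hept (lift : (Fin 6 → F) → C) (z : C) : Prop := ∃ a b c : Fin 6 → F, Adm a ∧ Adm b ∧ Adm c ∧
  lift a * lift (a + (1 : F) • u) * (lift b * lift (b + (1 : F) • u)) *
    (lift c * lift (c + (1 : F) • u)) = z

variable (L : Lab hF π z z lift)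
include L

theorem z_mem_Rad (H : Hept lift z) : z ∈ Rad lift := by
  obtain ⟨a, b, c, ha, hb, hc, h⟩ := H
  rw [← h]
  exact mul_mem (mul_mem (pair_mem_Rad ha rfl (ha.add hF 1).ne) (pair_mem_Rad hb rfl (hb.add hF 1).ne))
    (pair_mem_Rad hc rfl (hc.add hF 1).ne)

theorem u_mem_Rad (H : Hept lift z) : lift u ∈ Rad lift := by
  obtain ⟨ω, hω⟩ := exists_omega hF
  have ha := adm_a hF
  have h1 := line_eq L ha hω
  have h2 : lift (u : Fin 6 → F) = z * (lift (ι (ea F)) * lift (ι (ea F) + (1 : F) • u) *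
      (lift (ι (ea F) + ω • u) * lift (ι (ea F) + ω ^ 2 • u)))⁻¹ := by
    rw [← h1]; group
  rw [h2]
  refine mul_mem (z_mem_Rad L H) (inv_mem (mul_mem (pair_mem_Rad ha rfl (ha.add hF 1).ne)
    (pair_mem_Rad (c := 1) (ha.add hF ω) ?_ (ha.add hF (ω ^ 2)).ne)))
  rw [add_assoc, ← add_smul]
  congr 2
  linear_combination hω - (1 + ω) * two_eq_zero hF

/-! ### Conjugacy -/

/-- conjugacy of the admissible transpositions, with a scalar -/
theorem exists_conj_scale {w w' : Fin 6 → F} (hw : Adm w) (hw' : Adm w') {t : F} (ht : t ≠ 0) :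
    ∃ c : P0 lift, act (st L c : SU 6 F 2) w = t • w' := by
  obtain ⟨g, hg, h⟩ := exists_stab_map' hF hw hw' ht
  obtain ⟨c, hc⟩ := st_surjective L ⟨g, hg⟩
  exact ⟨c, by rw [hc, h]⟩

/-- conjugacy of the pairs in a block -/
theorem exists_conj_pair {w w' : Fin 6 → F} (hw : Adm w) (hw' : Adm w') {k k' : F} (hk : k ≠ 0)
    (hk' : k' ≠ 0) : ∃ c ∈ P0 lift, c * lift w * c⁻¹ = lift w' ∧
      c * lift (w + k • u) * c⁻¹ = lift (w' + k' • u) := by
  obtain ⟨c, hc⟩ := exists_conj_scale L hw hw' (mul_ne_zero hk (inv_ne_zero hk'))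
  have hne : k * k'⁻¹ ≠ 0 := mul_ne_zero hk (inv_ne_zero hk')
  refine ⟨c, c.2, ?_, ?_⟩
  · rw [conj_lift L c hw.ne hw.iso, hc, L.smul w' _ hw'.iso hne]
  · rw [conj_lift L c (hw.add hF k).ne (hw.add hF k).iso, act_add, act_smul, act_st, hc]
    have h1 : (k * k'⁻¹) • w' + k • (u : Fin 6 → F) = (k * k'⁻¹) • (w' + k' • u) := by
      rw [smul_add, smul_smul, mul_assoc, inv_mul_cancel₀ hk', mul_one]
    rw [h1, L.smul _ _ (hw'.add hF k').iso hne]

theorem exists_conj {w w' : Fin 6 → F} (hw : Adm w) (hw' : Adm w') :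
    ∃ c ∈ P0 lift, c * lift w * c⁻¹ = lift w' := by
  obtain ⟨c, hc, h, -⟩ := exists_conj_pair L hw hw' (one_ne_zero (α := F)) (one_ne_zero (α := F))
  exact ⟨c, hc, h⟩

/-! ### Generation -/

omit L in
/-- the generators of `P0` -/
def gens (lift : (Fin 6 → F) → C) : Set C := {x | x = lift u ∨ ∃ w, Adm w ∧ x = lift w}

theorem gens_of {w : Fin 6 → F} (h0 : w ≠ 0) (hw : hermForm 6 F 2 w w = 0)
    (hwu : hermForm 6 F 2 w u = 0) : lift w ∈ gens lift := by
  by_cases h : ∃ c : F, w = c • u
  · obtain ⟨c, rfl⟩ := h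
    left
    refine L.smul u c (hu hF) ?_
    rintro rfl
    exact h0 (zero_smul _ _)
  · exact Or.inr ⟨w, ⟨hw, hwu, h⟩, rfl⟩

theorem P0_eq_closure : P0 lift = Subgroup.closure (gens lift) := by
  apply le_antisymm
  · intro c hc
    have huu := hu (F := F) hF
    have hu0 := u_ne (F := F) hF
    have h1 : π c ∈ Subgroup.centralizer ({tau hF (u : Fin 6 → F)} : Set (PSU 6 F 2)) := by
      rw [Subgroup.mem_centralizer_singleton_iff, ← L.map u hu0 huu, ← map_mul, ← map_mul,
        mem_P0.1 hc]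
    have h2 := centralizer_le hF _ (tau_mem hF hu0 huu) h1
    have h3 : ∀ y ∈ Subgroup.closure (TT hF 6 ∩ {x | Commute (tau hF (u : Fin 6 → F)) x}),
        ∃ x ∈ Subgroup.closure (gens lift), π x = y := by
      intro y hy
      refine Subgroup.closure_induction
        (p := fun y _ => ∃ x ∈ Subgroup.closure (gens lift), π x = y) ?_ ?_ ?_ ?_ hy
      · rintro y ⟨⟨w, hw0, hw, rfl⟩, hc⟩
        refine ⟨lift w, Subgroup.subset_closure (gens_of L hw0 hw ?_), L.map w hw0 hw⟩
        exact herm_eq_zero_swap hF ((tau_commute_iff hF (by norm_num) huu hw hu0).1 hc)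
      · exact ⟨1, one_mem _, map_one _⟩
      · rintro a b _ _ ⟨x, hx, rfl⟩ ⟨y, hy, rfl⟩
        exact ⟨x * y, mul_mem hx hy, map_mul _ _ _⟩
      · rintro a _ ⟨x, hx, rfl⟩
        exact ⟨x⁻¹, inv_mem hx, map_inv _ _⟩
    have hz : z ∈ Subgroup.closure (gens lift) := by
      obtain ⟨ω, hω⟩ := exists_omega hF
      have ha := adm_a hF
      rw [← line_eq L ha hω]
      have h5 : ∀ k : F, lift (ι (ea F) + k • u) ∈ Subgroup.closure (gens lift) := fun k =>
        Subgroup.subset_closure (Or.inr ⟨_, ha.add hF k, rfl⟩)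
      exact mul_mem (mul_mem (Subgroup.subset_closure (Or.inl rfl)) (mul_mem
        (Subgroup.subset_closure (Or.inr ⟨_, ha, rfl⟩)) (h5 1))) (mul_mem (h5 ω) (h5 (ω ^ 2)))
    obtain ⟨x, hx, hxc⟩ := h3 _ h2
    rcases L.ext.map_eq.1 hxc.symm with h | h
    · rw [h]; exact hx
    · rw [h]; exact mul_mem hx hz
  · rw [Subgroup.closure_le]
    rintro x (rfl | ⟨w, hw, rfl⟩)
    · exact mem_P0.2 rfl
    · exact lift_mem L hw.ne hw.iso hw.perp

/-! ### The action of the radical -/

/-- an element of the radical moves the transpositions inside the blocks -/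
theorem exists_param {x : C} (hx : x ∈ Rad lift) : ∃ a : Fin 4 → F, ∀ w, Adm w →
    x * lift w * x⁻¹ = lift (w + hermForm 4 F 2 (top (m := 4) w) a • u) := by
  have hP := Rad_le L hx
  have h1 : lev (m := 4) hF (le_refl 4) (st L ⟨x, hP⟩) = 1 :=
    lv_of_mem_Rad L (c := ⟨x, hP⟩) hx
  obtain ⟨a, ha0, ha⟩ := exists_par (m := 4) hF (le_refl 4) h1
  refine ⟨a, fun w hw => ?_⟩
  rw [conj_lift L ⟨x, hP⟩ hw.ne hw.iso]
  congr 1
  have h2 := perp_eq (m := 4) hF hw.perp
  conv_lhs => rw [h2]
  conv_rhs => rw [h2]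
  rw [act_add, act_smul, ha, act_st]
  have h3 : top (m := 4) (ι (top (m := 4) w) + w (Fin.natAdd 4 (0 : Fin 2)) • (u : Fin 6 → F)) =
      top (m := 4) w := by rw [← h2]
  rw [h3]
  abel

/-- the line through `u` and `w`, general form -/
theorem line_gen {w : Fin 6 → F} (hw : Adm w) {c s : F} (hc : c ≠ 0) (hs : s ≠ 0) (hsc : s ≠ c) :
    lift u * lift w * lift (w + c • u) * lift (w + s • u) * lift (w + (s + c) • u) = z := by
  have hω : (s * c⁻¹) ^ 2 + s * c⁻¹ + 1 = 0 := by
    have h0 : s * c⁻¹ ≠ 0 := mul_ne_zero hs (inv_ne_zero hc)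
    have h3 := pow_three hF h0
    have h1 : s * c⁻¹ - 1 ≠ 0 := by
      intro h
      apply hsc
      have : s * c⁻¹ = 1 := by linear_combination h
      field_simp at this
      exact this
    have : (s * c⁻¹ - 1) * ((s * c⁻¹) ^ 2 + s * c⁻¹ + 1) = 0 := by linear_combination h3
    exact (mul_eq_zero.1 this).resolve_left h1
  have hcu0 : c • (u : Fin 6 → F) ≠ 0 := smul_ne_zero hc (u_ne hF)
  have h1 := L.line (c • u) w hcu0 hw.ne (herm_smul_self hF (hu hF) c) hw.iso
    (by rw [herm_smul_left, herm_eq_zero_swap hF hw.perp, mul_zero])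
    (by
      rintro ⟨k, hk⟩
      exact hw.indep ⟨k * c, by rw [hk, smul_smul]⟩) (s * c⁻¹) hω
  rw [L.smul u c (hu hF) hc, smul_smul, smul_smul, mul_assoc s, inv_mul_cancel₀ hc, mul_one,
    add_comm (c • u) w, add_comm (s • u) w, add_comm (((s * c⁻¹) ^ 2 * c) • u) w] at h1
  have h2 : (s * c⁻¹) ^ 2 * c = s + c := by
    have : (s * c⁻¹) ^ 2 * c = -(s * c⁻¹ * c) - c := by linear_combination c * hω
    rw [this, mul_assoc, inv_mul_cancel₀ hc, mul_one]
    linear_combination (-s - c) * two_eq_zero hF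
  rw [h2] at h1
  exact h1

omit L in
/-- the element `z' = z * lift u` -/
def zz (lift : (Fin 6 → F) → C) (z : C) : C := z * lift u

theorem comm_lift {w w' : Fin 6 → F} (hw : Adm w) (hw' : Adm w')
    (h : hermForm 6 F 2 w w' = 0) : lift w * lift w' = lift w' * lift w :=
  (L.commute_iff hw.iso hw'.iso hw.ne hw'.ne).2 h

theorem comm_block {w : Fin 6 → F} (hw : Adm w) (c c' : F) :
    lift (w + c • u) * lift (w + c' • u) = lift (w + c' • u) * lift (w + c • u) := by
  apply comm_lift L (hw.add hF c) (hw.add hF c')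
  rw [herm_add_left, herm_add_right hF, herm_add_right hF, herm_smul_right, herm_smul_left,
    herm_smul_left, herm_smul_right, hw.iso, hw.perp, herm_eq_zero_swap hF hw.perp, hu hF]
  ring

theorem comm_u {w : Fin 6 → F} (hw : Adm w) : lift u * lift w = lift w * lift u :=
  (L.commute_iff (hu hF) hw.iso (u_ne hF) hw.ne).2 (herm_eq_zero_swap hF hw.perp)

theorem sq_adm {w : Fin 6 → F} (hw : Adm w) : lift w * lift w = 1 := L.sq w hw.ne hw.iso

theorem uu : lift (u : Fin 6 → F) * lift u = 1 := L.sq u (u_ne hF) (hu hF)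

/-- the product of the four members of a block -/
theorem four {w : Fin 6 → F} (hw : Adm w) {c s : F} (hc : c ≠ 0) (hs : s ≠ 0) (hsc : s ≠ c) :
    lift (w + s • u) * lift (w + (s + c) • u) * (lift w * lift (w + c • u)) = zz lift z := by
  have h := line_gen L hw hc hs hsc
  have h0 : lift w = lift (w + (0 : F) • u) := by rw [zero_smul, add_zero]
  have e1 : lift w * lift (w + s • u) = lift (w + s • u) * lift w := by
    rw [h0]; exact comm_block L hw 0 s
  have e2 : lift w * lift (w + (s + c) • u) = lift (w + (s + c) • u) * lift w := by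
    rw [h0]; exact comm_block L hw 0 (s + c)
  have e3 := comm_block L hw c s
  have e4 := comm_block L hw c (s + c)
  have h1 : lift u * (lift (w + s • u) * lift (w + (s + c) • u) * (lift w * lift (w + c • u))) =
      z := by
    rw [← h]
    calc lift u * (lift (w + s • u) * lift (w + (s + c) • u) * (lift w * lift (w + c • u)))
        = lift u * (lift (w + s • u) * (lift (w + (s + c) • u) * lift w) * lift (w + c • u)) := by
          group
      _ = lift u * (lift (w + s • u) * (lift w * lift (w + (s + c) • u)) * lift (w + c • u)) := by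
          rw [e2]
      _ = lift u * ((lift (w + s • u) * lift w) * (lift (w + (s + c) • u) * lift (w + c • u))) := by
          group
      _ = lift u * ((lift w * lift (w + s • u)) * (lift (w + c • u) * lift (w + (s + c) • u))) := by
          rw [e1, e4]
      _ = lift u * (lift w * (lift (w + s • u) * lift (w + c • u)) * lift (w + (s + c) • u)) := by
          group
      _ = lift u * (lift w * (lift (w + c • u) * lift (w + s • u)) * lift (w + (s + c) • u)) := by
          rw [e3]
      _ = _ := by group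
  have h2 : lift (w + s • u) * lift (w + (s + c) • u) * (lift w * lift (w + c • u)) =
      lift u * z := by
    rw [← h1, ← mul_assoc (lift u), uu L, one_mul]
  rw [h2, zz]
  exact L.ext.comm _

theorem zz_sq : zz lift z * zz lift z = 1 := by
  calc z * lift u * (z * lift u) = z * (lift u * z) * lift u := by group
    _ = z * (z * lift u) * lift u := by rw [L.ext.comm (lift u)]
    _ = (z * z) * (lift u * lift u) := by group
    _ = 1 := by rw [L.ext.zz, uu L, mul_one]

theorem zz_comm {c : C} (hc : c ∈ P0 lift) : c * zz lift z = zz lift z * c := by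
  rw [zz, ← mul_assoc, L.ext.comm c, mul_assoc, mem_P0.1 hc, mul_assoc]

/-- commutators with the generators of the radical -/
theorem comm_gen {x : C} (hx : x ∈ Rad lift) {w : Fin 6 → F} (hw : Adm w) (c : F) :
    x * (lift w * lift (w + c • u)) * x⁻¹ * (lift w * lift (w + c • u))⁻¹ = 1 ∨
    x * (lift w * lift (w + c • u)) * x⁻¹ * (lift w * lift (w + c • u))⁻¹ = zz lift z := by
  obtain ⟨a, ha⟩ := exists_param L hx
  set s := hermForm 4 F 2 (top (m := 4) w) a with hs
  have h1 : x * (lift w * lift (w + c • u)) * x⁻¹ =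
      lift (w + s • u) * lift (w + (s + c) • u) := by
    have e1 := ha w hw
    have e2 := ha _ (hw.add hF c)
    rw [Levi.top_add, Levi.top_smul, top_u0, smul_zero, add_zero, ← hs] at e2
    calc x * (lift w * lift (w + c • u)) * x⁻¹ =
        (x * lift w * x⁻¹) * (x * lift (w + c • u) * x⁻¹) := by group
      _ = _ := by
        rw [e1, e2]
        congr 2
        rw [add_assoc, ← add_smul, add_comm c s]
  have h2 : (lift w * lift (w + c • u))⁻¹ = lift w * lift (w + c • u) := by
    rw [mul_inv_rev, inv_eq_of_mul_eq_one_left (sq_adm L hw),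
      inv_eq_of_mul_eq_one_left (sq_adm L (hw.add hF c))]
    have := comm_block L hw c 0
    rw [zero_smul, add_zero] at this
    exact this
  rw [h1, h2]
  have hsq := sq_adm L hw
  by_cases hc : c = 0
  · left
    subst hc
    rw [zero_smul, add_zero, add_zero, hsq, mul_one, sq_adm L (hw.add hF s)]
  by_cases hs0 : s = 0
  · left
    rw [hs0, zero_smul, add_zero, zero_add]
    have h3 := inv_mul_cancel (lift w * lift (w + c • u))
    rwa [h2] at h3
  by_cases hsc : s = c
  · left
    have e : s + c = 0 := by rw [hsc]; exact add_self hF c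
    have h3 := comm_block L hw c 0
    rw [zero_smul, add_zero] at h3
    rw [e, zero_smul, add_zero, hsc, h3]
    have h4 := inv_mul_cancel (lift w * lift (w + c • u))
    rwa [h2] at h4
  · right
    exact four L hw hc hs0 hsc

/-- **`Rad' ≤ ⟨z'⟩`** -/
theorem comm_Rad {x y : C} (hx : x ∈ Rad lift) (hy : y ∈ Rad lift) :
    x * y * x⁻¹ * y⁻¹ = 1 ∨ x * y * x⁻¹ * y⁻¹ = zz lift z := by
  have key : x * y * x⁻¹ * y⁻¹ ∈ Subgroup.zpowers (zz lift z) := by
    refine Subgroup.closure_induction
      (p := fun y _ => x * y * x⁻¹ * y⁻¹ ∈ Subgroup.zpowers (zz lift z)) ?_ ?_ ?_ ?_ hy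
    · rintro y ⟨w, c, h0, h0', hw, hwu, rfl⟩
      by_cases h : ∃ k : F, w = k • u
      · obtain ⟨k, rfl⟩ := h
        have hk : k ≠ 0 := by
          rintro rfl
          exact h0 (zero_smul _ _)
        have hkc : k + c ≠ 0 := by
          intro h
          apply h0'
          rw [← add_smul, h, zero_smul]
        have h1 : lift (k • u) * lift (k • u + c • u) = (1 : C) := by
          rw [← add_smul, L.smul u k (hu hF) hk, L.smul u (k + c) (hu hF) hkc, uu L]
        rw [h1, mul_one, mul_inv_cancel, inv_one, mul_one]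
        exact one_mem _
      · rcases comm_gen L hx ⟨hw, hwu, h⟩ c with h | h
        · rw [h]; exact one_mem _
        · rw [h]; exact Subgroup.mem_zpowers _
    · rw [mul_one, mul_inv_cancel, inv_one, mul_one]; exact one_mem _
    · intro a b ha _ ha' hb'
      obtain ⟨k, hk⟩ := Subgroup.mem_zpowers_iff.1 hb'
      have h2 : x * (a * b) * x⁻¹ * (a * b)⁻¹ =
          (x * a * x⁻¹ * a⁻¹) * (a * (x * b * x⁻¹ * b⁻¹) * a⁻¹) := by group
      have h3 : Commute a (zz lift z) := zz_comm L (Rad_le L ha)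
      have h4 : a * (x * b * x⁻¹ * b⁻¹) * a⁻¹ = x * b * x⁻¹ * b⁻¹ := by
        rw [← hk, (h3.zpow_right k).eq, mul_inv_cancel_right]
      rw [h2, h4]
      exact mul_mem ha' hb'
    · intro a ha ha'
      obtain ⟨k, hk⟩ := Subgroup.mem_zpowers_iff.1 ha'
      have h2 : x * a⁻¹ * x⁻¹ * a⁻¹⁻¹ = (a⁻¹ * (x * a * x⁻¹ * a⁻¹) * a)⁻¹ := by group
      have h3 : Commute a⁻¹ (zz lift z) := zz_comm L (Rad_le L (inv_mem ha))
      have h4 : a⁻¹ * (x * a * x⁻¹ * a⁻¹) * a = x * a * x⁻¹ * a⁻¹ := by
        rw [← hk, (h3.zpow_right k).eq, inv_mul_cancel_right]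
      rw [h2, h4]
      exact inv_mem ha'
  obtain ⟨k, hk⟩ := Subgroup.mem_zpowers_iff.1 key
  rcases Int.even_or_odd k with ⟨m, rfl⟩ | ⟨m, rfl⟩
  · left
    rw [← hk, ← two_mul, zpow_mul, zpow_ofNat, pow_two, zz_sq L, one_zpow]
  · right
    rw [← hk, zpow_add, zpow_mul, zpow_ofNat, pow_two, zz_sq L, one_zpow, one_mul, zpow_one]

end Cfsg.Agent.KFacts.FiTT.Radical
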