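import Cfsg.Agent.KFacts.FiTT.Radical

/-!
# The centraliser of two commuting transpositions: normal subgroups, perfectness, the quotient
-/

set_option autoImplicit false
set_option linter.unusedSectionVars false

namespace Cfsg.Agent.KFacts.FiTT.Radical

open Cfsg Cfsg.Agent.LieClassical.HermBasic Cfsg.Agent.ClassicalGeometry.UnitTransv
open Cfsg.Agent.SporadicStructure.UnitTwo Cfsg.Agent.R01.PSUSix
open Cfsg.Agent.ClassicalGeometry.UnitAutBasic (tau pr pr_surjective exists_scalar_of_mem_center)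
open Cfsg.Agent.R01.Lifts Cfsg.Agent.R01.Label
open Cfsg.Agent.KFacts.FiTT.Levi Cfsg.Agent.KFacts.FiTT.Cent
open scoped commutatorElement

section Quot

variable {F : Type*} [Field F] [Fintype F] (hF : Fintype.card F = 2 ^ 2)
include hF

theorem center_SU_four : Subgroup.center (SU 4 F 2) = ⊥ := by
  rw [eq_bot_iff]
  intro g hg
  obtain ⟨c, hc4, hc3, rfl⟩ :=
    (Cfsg.Agent.LieClassical.SUBasic.mem_center_SU_iff hF (by norm_num) g).1 hg
  have hc : c = 1 := by linear_combination hc4 - c * hc3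
  subst hc
  rw [Subgroup.mem_bot]
  apply ext_act
  intro v
  rw [act_def, Cfsg.Agent.LieClassical.SUBasic.coe_suScalar, act_one]
  funext i
  rw [Matrix.mulVec_diagonal, one_mul]

/-- `SU 4 F 2` is isomorphic to `PSU 4 F 2` -/
noncomputable def suEquiv : SU 4 F 2 ≃* PSU 4 F 2 :=
  MulEquiv.ofBijective (pr 4 F 2) ⟨by
    rw [injective_iff_map_eq_one]
    intro g hg
    have h1 : g ∈ Subgroup.center (SU 4 F 2) := (QuotientGroup.eq_one_iff g).1 hg
    rwa [center_SU_four hF, Subgroup.mem_bot] at h1, pr_surjective⟩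

theorem isSimple_SU_four : IsSimpleGroup (SU 4 F 2) := by
  have : IsSimpleGroup (PSU 4 F 2) :=
    Cfsg.Agent.S0283.result (q := 2) hF 4 (by norm_num) (by norm_num)
  exact (suEquiv hF).isSimpleGroup

theorem mem_center_of_T {g : SU 4 F 2} (h : ∀ (v : Fin 4 → F) (hv : hermForm 4 F 2 v v = 0), v ≠ 0 →
    g * T hF v hv = T hF v hv * g) : g = 1 := by
  have h1 : g ∈ Subgroup.center (SU 4 F 2) := by
    rw [Subgroup.mem_center_iff]
    intro k
    have hk : k ∈ R (n := 4) hF := by rw [R_eq_top hF (le_refl 4)]; trivial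
    have hle : R (n := 4) hF ≤ Subgroup.centralizer ({g} : Set (SU 4 F 2)) := by
      unfold R
      rw [Subgroup.closure_le]
      rintro _ ⟨v, hv, hv0, rfl⟩
      rw [SetLike.mem_coe, Subgroup.mem_centralizer_singleton_iff]
      exact (h v hv hv0).symm
    exact Subgroup.mem_centralizer_singleton_iff.1 (hle hk)
  rwa [center_SU_four hF, Subgroup.mem_bot] at h1

/-- a vector orthogonal to all isotropic vectors vanishes -/
theorem eq_zero_of_iso {a : Fin 4 → F} (h : ∀ y : Fin 4 → F, y ≠ 0 → hermForm 4 F 2 y y = 0 →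
    hermForm 4 F 2 y a = 0) : a = 0 := by
  obtain ⟨ω, hω⟩ := exists_omega hF
  have hω0 : ω ≠ 0 := by
    rintro rfl
    simp at hω
  funext i
  obtain ⟨j, hj⟩ : ∃ j : Fin 4, j ≠ i := exists_ne i
  have hi : ∀ s : F, s ≠ 0 → s * a i ^ 2 + a j ^ 2 = 0 := by
    intro s hs
    have h1 := h (Pi.single i s + Pi.single j 1) ?_ ?_
    · rw [herm_add_left, herm_single_left, herm_single_left, one_mul] at h1
      exact h1
    · intro h0
      have := congrFun h0 i
      rw [Pi.add_apply, Pi.single_eq_same, Pi.single_eq_of_ne hj.symm, add_zero, Pi.zero_apply]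
        at this
      exact hs this
    · rw [herm_add_left, herm_single_left, herm_single_left]
      simp only [Pi.add_apply, Pi.single_eq_same, Pi.single_eq_of_ne hj, Pi.single_eq_of_ne hj.symm,
        add_zero, zero_add]
      have h3 := pow_three hF hs
      linear_combination h3 + two_eq_zero hF
  have h1 := hi 1 one_ne_zero
  have h2 := hi ω hω0
  have h3 : (ω - 1) * a i ^ 2 = 0 := by linear_combination h2 - h1
  rcases mul_eq_zero.1 h3 with h4 | h4
  · exfalso
    have h5 : ω = 1 := by linear_combination h4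
    rw [h5] at hω
    have h6 := two_eq_zero hF
    exact one_ne_zero (α := F) (by linear_combination hω - h6)
  · exact pow_eq_zero_iff (two_ne_zero) |>.1 h4

end Quot

variable {C : Type*} [Group C] {F : Type*} [Field F] [Fintype F] {hF : Fintype.card F = 2 ^ 2}
  {π : C →* PSU 6 F 2} {z : C} {lift : (Fin 6 → F) → C}

variable (L : Lab hF π z z lift)
include L

/-- equality of two transpositions of the same block -/
theorem lift_block_eq {w : Fin 6 → F} (hw : Adm w) {c : F} (h : lift (w + c • u) = lift w) :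
    c = 0 := by
  obtain ⟨k, hk0, hk⟩ := (L.lift_eq_iff (hw.add hF c).iso hw.iso (hw.add hF c).ne hw.ne).1 h
  by_contra hc
  by_cases hk1 : k = 1
  · subst hk1
    rw [one_smul] at hk
    have h1 : c • (u : Fin 6 → F) = 0 := by
      have := congrArg (fun x => x - w) hk
      simpa using this.symm
    rcases smul_eq_zero.1 h1 with h2 | h2
    · exact hc h2
    · exact u_ne hF h2
  · apply hw.indep
    refine ⟨(1 - k)⁻¹ * (k * c), ?_⟩
    have h1 : (1 - k) • w = (k * c) • (u : Fin 6 → F) := by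
      rw [sub_smul, one_smul]
      conv_lhs => lhs; rw [hk]
      rw [smul_add, smul_smul]
      abel
    have h2 : (1 - k) ≠ 0 := fun h => hk1 (by linear_combination -h)
    rw [mul_smul, ← h1, smul_smul, inv_mul_cancel₀ h2, one_smul]

/-- **The centre of `P0`.** -/
theorem eq_of_comm {c : C} (hc : c ∈ P0 lift) (h : ∀ w, Adm w → c * lift w = lift w * c) :
    c = 1 ∨ c = z ∨ c = lift u ∨ c = zz lift z := by
  have h1 : lv L ⟨c, hc⟩ = 1 := by
    apply mem_center_of_T hF
    intro v hv hv0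
    have ha := adm_ι hF hv0 hv
    have h2 := congrArg (lv L) (Subtype.ext (h _ ha) :
      (⟨c, hc⟩ : P0 lift) * ⟨lift (ι v), lift_mem L ha.ne ha.iso ha.perp⟩ =
        ⟨lift (ι v), lift_mem L ha.ne ha.iso ha.perp⟩ * ⟨c, hc⟩)
    rw [map_mul, map_mul, lv_lift L ha.ne ha.iso ha.perp] at h2
    have h3 : T hF (top (m := 4) (ι v)) (top_iso (m := 4) hF ha.iso ha.perp) = T hF v hv := by
      apply ext_act
      intro x
      rw [act_T, act_T, top_ι]
    rwa [h3] at h2
  obtain ⟨a, ha0, ha⟩ := exists_par (m := 4) hF (le_refl 4) h1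
  have ha1 : a = 0 := by
    apply eq_zero_of_iso hF
    intro y hy0 hy
    have hA := adm_ι hF hy0 hy
    have h2 := conj_lift L ⟨c, hc⟩ hA.ne hA.iso
    rw [ha] at h2
    have h3 : c * lift (ι y) * c⁻¹ = lift (ι y) := by rw [h _ hA, mul_inv_cancel_right]
    exact lift_block_eq L hA (h2.symm.trans h3)
  rw [ha1] at ha
  have hpar : Par (st L ⟨c, hc⟩ : SU 6 F 2) (0 : Fin 4 → F) := ⟨ha0, ha⟩
  rcases eq_of_par_zero (m := 4) hF (by norm_num) hpar with h2 | h2
  · have h3 : st L ⟨c, hc⟩ = 1 := Subtype.ext h2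
    rcases (st_eq_one_iff L _).1 h3 with h4 | h4
    · exact Or.inl h4
    · exact Or.inr (Or.inl h4)
  · have h3 : st L ⟨c, hc⟩ = st L ⟨lift u, mem_P0.2 rfl⟩ := by
      rw [st_eq L (c := ⟨lift u, mem_P0.2 rfl⟩) (T_mem_Stab (m := 4) hF (hu hF) (hu hF))
        ((L.map u (u_ne hF) (hu hF)).trans (tau_eq_pr hF (hu hF)))]
      exact Subtype.ext h2
    have h4 : st L (⟨c, hc⟩ * ⟨lift u, mem_P0.2 rfl⟩) = 1 := by
      rw [map_mul, h3, ← map_mul]
      have : (⟨lift u, mem_P0.2 rfl⟩ * ⟨lift u, mem_P0.2 rfl⟩ : P0 lift) = 1 :=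
        Subtype.ext (uu L)
      rw [this, map_one]
    rcases (st_eq_one_iff L _).1 h4 with h5 | h5
    · right; right; left
      have h6 : c * lift u = 1 := h5
      rw [← inv_eq_of_mul_eq_one_left h6, inv_eq_of_mul_eq_one_left (uu L)]
    · right; right; right
      have h6 : c * lift u = z := h5
      rw [zz, ← h6, mul_assoc, uu L, mul_one]

/-- the element `z` commutes with everything -/
theorem central_of {c x : C} (hx : x ∈ P0 lift) (h : c = 1 ∨ c = z ∨ c = lift u ∨ c = zz lift z) :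
    x * c = c * x := by
  rcases h with rfl | rfl | rfl | rfl
  · rw [mul_one, one_mul]
  · exact L.ext.comm x
  · exact mem_P0.1 hx
  · exact zz_comm L hx

/-- **The `P0`-invariant subgroups of the radical.** -/
theorem normal_dichotomy {N : Subgroup C} (hN : N ≤ Rad lift)
    (hn : ∀ c ∈ P0 lift, ∀ x ∈ N, c * x * c⁻¹ ∈ N) :
    N = Rad lift ∨ ∀ x ∈ N, x = 1 ∨ x = z ∨ x = lift u ∨ x = zz lift z := by
  by_cases h : ∀ x ∈ N, ∀ w, Adm w → x * lift w = lift w * x
  · right
    intro x hx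
    exact eq_of_comm L (Rad_le L (hN hx)) (h x hx)
  · left
    push Not at h
    obtain ⟨x, hx, w, hw, hne⟩ := h
    obtain ⟨a, ha⟩ := exists_param L (hN hx)
    set s := hermForm 4 F 2 (top (m := 4) w) a with hs
    have h1 := ha w hw
    rw [← hs] at h1
    have hs0 : s ≠ 0 := by
      intro h0
      rw [h0, zero_smul, add_zero] at h1
      exact hne (mul_inv_eq_iff_eq_mul.1 h1)
    have hlw : (lift w)⁻¹ = lift w := inv_eq_of_mul_eq_one_left (sq_adm L hw)
    have hwP : lift w ∈ P0 lift := lift_mem L hw.ne hw.iso hw.perp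
    have h2 : lift w * lift (w + s • u) ∈ N := by
      have h3 := hn _ hwP _ (inv_mem hx)
      have h4 := mul_mem hx h3
      have h5 : x * (lift w * x⁻¹ * (lift w)⁻¹) = lift (w + s • u) * lift w := by
        rw [← h1, hlw]; group
      rw [h5] at h4
      have h6 := comm_block L hw s 0
      rw [zero_smul, add_zero] at h6
      rwa [h6] at h4
    apply le_antisymm hN
    unfold Rad
    rw [Subgroup.closure_le]
    rintro y ⟨w', c, h0, h0', hw', hwu', rfl⟩
    by_cases hc : c = 0
    · subst hc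
      rw [zero_smul, add_zero, L.sq w' h0 hw']
      exact one_mem _
    by_cases hk : ∃ k : F, w' = k • u
    · obtain ⟨k, rfl⟩ := hk
      have hk0 : k ≠ 0 := by
        rintro rfl
        exact h0 (zero_smul _ _)
      have hkc : k + c ≠ 0 := by
        intro h
        apply h0'
        rw [← add_smul, h, zero_smul]
      have h1 : lift (k • u) * lift (k • u + c • u) = (1 : C) := by
        rw [← add_smul, L.smul u k (hu hF) hk0, L.smul u (k + c) (hu hF) hkc, uu L]
      rw [h1]
      exact one_mem _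
    · obtain ⟨g, hg, h3, h4⟩ := exists_conj_pair L hw ⟨hw', hwu', hk⟩ hs0 hc
      have h5 := hn g hg _ h2
      have h6 : g * (lift w * lift (w + s • u)) * g⁻¹ =
          (g * lift w * g⁻¹) * (g * lift (w + s • u) * g⁻¹) := by group
      rwa [h6, h3, h4] at h5

/-- `Rad` is not abelian -/
theorem exists_comm_zz : ∃ x ∈ Rad lift, ∃ y ∈ Rad lift, x * y * x⁻¹ * y⁻¹ = zz lift z := by
  obtain ⟨ω, hω⟩ := exists_omega hF
  have hω0 : ω ≠ 0 := by
    rintro rfl
    simp at hω
  have hω1 : (1 : F) ≠ ω := by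
    rintro rfl
    have h6 := two_eq_zero hF
    exact one_ne_zero (α := F) (by linear_combination hω - h6)
  have ha := adm_a hF
  have hb : Adm (ι (eb ω) : Fin 6 → F) := adm_ι hF (eb_ne hω0) (herm_eb hF hω)
  refine ⟨lift (ι (ea F)) * lift (ι (ea F) + (1 : F) • u),
    pair_mem_Rad ha rfl (ha.add hF 1).ne,
    lift (ι (eb ω)) * lift (ι (eb ω) + ω • u),
    pair_mem_Rad hb rfl (hb.add hF ω).ne, ?_⟩
  set x := lift (ι (ea F)) * lift (ι (ea F) + (1 : F) • u) with hx
  have hxR : x ∈ Rad lift := pair_mem_Rad ha rfl (ha.add hF 1).ne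
  -- the action of `x`
  have hxact : ∀ w, Adm w → x * lift w * x⁻¹ =
      lift (w + (hermForm 6 F 2 w (ι (ea F)) * 1) • u) := by
    intro w hw
    have hπ : π x = pr 6 F 2 (T hF (ι (ea F)) ha.iso *
        T hF (ι (ea F) + (1 : F) • u) (iso_add (m := 4) hF ha.iso ha.perp 1)) := by
      rw [hx, map_mul, L.map _ ha.ne ha.iso, L.map _ (ha.add hF 1).ne (ha.add hF 1).iso,
        tau_eq_pr hF ha.iso, tau_eq_pr hF (ha.add hF 1).iso, ← map_mul]
    rw [L.conj x _ w hπ hw.ne hw.iso]
    congr 1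
    exact act_pair (m := 4) hF ha.iso ha.perp 1 hw.perp
  have hs : hermForm 6 F 2 (ι (eb ω)) (ι (ea F)) = 1 := by
    have := herm_ι_left (m := 4) (eb ω) (ι (ea F))
    rw [top_ι, herm_eb_ea hF hω] at this
    exact this
  have e1 := hxact _ hb
  rw [hs, one_mul] at e1
  have e2 := hxact _ (hb.add hF ω)
  have hs2 : hermForm 6 F 2 (ι (eb ω) + ω • u) (ι (ea F)) = 1 := by
    rw [herm_add_left, herm_smul_left, hs, herm_eq_zero_swap hF ha.perp, mul_zero, add_zero]
  rw [hs2, one_mul, add_assoc, ← add_smul, add_comm ω 1] at e2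
  have h2 : (lift (ι (eb ω)) * lift (ι (eb ω) + ω • u))⁻¹ =
      lift (ι (eb ω)) * lift (ι (eb ω) + ω • u) := by
    rw [mul_inv_rev, inv_eq_of_mul_eq_one_left (sq_adm L hb),
      inv_eq_of_mul_eq_one_left (sq_adm L (hb.add hF ω))]
    have := comm_block L hb ω 0
    rw [zero_smul, add_zero] at this
    exact this
  have h3 : x * (lift (ι (eb ω)) * lift (ι (eb ω) + ω • u)) * x⁻¹ =
      (x * lift (ι (eb ω)) * x⁻¹) * (x * lift (ι (eb ω) + ω • u) * x⁻¹) := by group
  rw [h2, h3, e1, e2]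
  exact four L hb hω0 one_ne_zero hω1

/-- squares of elements of the radical -/
theorem sq_Rad {x : C} (hx : x ∈ Rad lift) : x * x = 1 ∨ x * x = zz lift z := by
  have hmem : ∀ x ∈ Rad lift, x * x ∈ Subgroup.zpowers (zz lift z) := by
    intro x hx
    refine Subgroup.closure_induction
      (p := fun x _ => x * x ∈ Subgroup.zpowers (zz lift z)) ?_ ?_ ?_ ?_ hx
    · rintro x ⟨w, c, h0, h0', hw, hwu, rfl⟩
      have hw' := iso_add (m := 4) hF hw hwu c
      have hcomm : lift (w + c • u) * lift w = lift w * lift (w + c • u) := by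
        refine (L.commute_iff hw' hw h0' h0).2 ?_
        rw [herm_add_left, herm_smul_left, herm_eq_zero_swap hF hwu, hw, mul_zero, add_zero]
      have : lift w * lift (w + c • u) * (lift w * lift (w + c • u)) = 1 := by
        calc lift w * lift (w + c • u) * (lift w * lift (w + c • u))
            = lift w * (lift (w + c • u) * lift w) * lift (w + c • u) := by group
          _ = lift w * (lift w * lift (w + c • u)) * lift (w + c • u) := by rw [hcomm]
          _ = (lift w * lift w) * (lift (w + c • u) * lift (w + c • u)) := by group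
          _ = 1 := by rw [L.sq w h0 hw, L.sq _ h0' hw', mul_one]
      rw [this]
      exact one_mem _
    · rw [mul_one]; exact one_mem _
    · intro a b ha hb ha' hb'
      have h1 : a * b * (a * b) = (a * a) * (a⁻¹ * b * a⁻¹⁻¹ * b⁻¹) * (b * b) := by group
      rw [h1]
      refine mul_mem (mul_mem ha' ?_) hb'
      rcases comm_Rad L (inv_mem ha) hb with h | h
      · rw [h]; exact one_mem _
      · rw [h]; exact Subgroup.mem_zpowers _
    · intro a ha ha'
      rw [← mul_inv_rev]
      exact inv_mem ha'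
  obtain ⟨k, hk⟩ := Subgroup.mem_zpowers_iff.1 (hmem x hx)
  rcases Int.even_or_odd k with ⟨m, rfl⟩ | ⟨m, rfl⟩
  · left
    rw [← hk, ← two_mul, zpow_mul, zpow_ofNat, pow_two, zz_sq L, one_zpow]
  · right
    rw [← hk, zpow_add, zpow_mul, zpow_ofNat, pow_two, zz_sq L, one_zpow, one_mul, zpow_one]

theorem isPGroup_Rad : IsPGroup 2 (Rad lift) := by
  rintro ⟨x, hx⟩
  refine ⟨2, Subtype.ext ?_⟩
  show x ^ (2 ^ 2) = 1
  have h1 : x ^ (2 ^ 2) = (x * x) * (x * x) := by
    rw [show (2 : ℕ) ^ 2 = 2 + 2 from rfl, pow_add, pow_two]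
  rw [h1]
  rcases sq_Rad L hx with h | h
  · rw [h, mul_one]
  · rw [h, zz_sq L]

/-! ### Perfectness -/

/-- the pair products lie in the commutator subgroup -/
theorem Rad_le_commutator : Rad lift ≤ (commutator (P0 lift)).map (P0 lift).subtype := by
  unfold Rad
  rw [Subgroup.closure_le]
  rintro y ⟨w, c, h0, h0', hw, hwu, rfl⟩
  by_cases hk : ∃ k : F, w = k • u
  · obtain ⟨k, rfl⟩ := hk
    have hk0 : k ≠ 0 := by
      rintro rfl
      exact h0 (zero_smul _ _)
    have hkc : k + c ≠ 0 := by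
      intro h
      apply h0'
      rw [← add_smul, h, zero_smul]
    have h1 : lift (k • u) * lift (k • u + c • u) = (1 : C) := by
      rw [← add_smul, L.smul u k (hu hF) hk0, L.smul u (k + c) (hu hF) hkc, uu L]
    rw [h1]
    exact one_mem _
  · have hA : Adm w := ⟨hw, hwu, hk⟩
    obtain ⟨g, hg, h⟩ := exists_conj L hA (hA.add hF c)
    have hwP := lift_mem L hA.ne hA.iso hA.perp
    have h1 : ⁅(⟨lift w, hwP⟩ : P0 lift), (⟨g, hg⟩ : P0 lift)⁆ ∈ commutator (P0 lift) :=
      Subgroup.commutator_mem_commutator (Subgroup.mem_top _) (Subgroup.mem_top _)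
    refine ⟨_, h1, ?_⟩
    show lift w * g * (lift w)⁻¹ * g⁻¹ = _
    have hlw : (lift w)⁻¹ = lift w := inv_eq_of_mul_eq_one_left (sq_adm L hA)
    rw [hlw, ← h]
    group

/-- **`P0` is perfect.** -/
theorem perfect (H : Hept lift z) : commutator (P0 lift) = ⊤ := by
  obtain ⟨ω, hω⟩ := exists_omega hF
  let f : P0 lift →* Abelianization (P0 lift) := Abelianization.of
  have hfker : f.ker = commutator (P0 lift) := Abelianization.ker_of _
  have hR : ∀ x (hx : x ∈ Rad lift), f ⟨x, Rad_le L hx⟩ = 1 := by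
    intro x hx
    obtain ⟨y, hy, hyx⟩ := Rad_le_commutator L hx
    have h1 : y = ⟨x, Rad_le L hx⟩ := Subtype.ext hyx
    rw [← MonoidHom.mem_ker, hfker, ← h1]
    exact hy
  have ha := adm_a hF
  have haP := lift_mem L ha.ne ha.iso ha.perp
  have hconst : ∀ w (hw : Adm w), f ⟨lift w, lift_mem L hw.ne hw.iso hw.perp⟩ =
      f ⟨lift (ι (ea F)), haP⟩ := by
    intro w hw
    obtain ⟨g, hg, h⟩ := exists_conj L hw ha
    have h1 : (⟨lift (ι (ea F)), haP⟩ : P0 lift) =
        ⟨g, hg⟩ * ⟨lift w, lift_mem L hw.ne hw.iso hw.perp⟩ * (⟨g, hg⟩ : P0 lift)⁻¹ :=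
      Subtype.ext h.symm
    rw [h1, map_mul, map_mul, map_inv, mul_comm (f ⟨g, hg⟩), mul_assoc, mul_inv_cancel, mul_one]
  -- a line without `u`
  set b : Fin 4 → F := ![0, 0, 1, 1] with hb
  have hbb : hermForm 4 F 2 b b = 0 := by
    rw [herm_def]
    simp [hb, Fin.sum_univ_four]
    linear_combination two_eq_zero hF
  have hab : hermForm 4 F 2 (ea F) b = 0 := by
    rw [herm_def]
    simp [hb, ea, Fin.sum_univ_four]
  have hba := herm_eq_zero_swap hF hab
  have hiso : ∀ k : F, hermForm 4 F 2 (k • ea F + b) (k • ea F + b) = 0 := by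
    intro k
    simp only [herm_add_left, herm_add_right hF, herm_smul_left, herm_smul_right, herm_ea hF, hbb,
      hab, hba]
    ring
  have hne : ∀ k : F, k • ea F + b ≠ 0 := by
    intro k h
    have := congrFun h 2
    simp [ea, hb] at this
  have hadm : ∀ k : F, Adm (k • ι (ea F) + ι b : Fin 6 → F) := by
    intro k
    have h1 := adm_ι hF (hne k) (hiso k)
    have h2 : (ι (k • ea F + b) : Fin 6 → F) = k • ι (ea F) + ι b := by
      have := ι_add (m := 4) (k • ea F) b
      rw [ι_smul (m := 4)] at this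
      exact this
    rwa [h2] at h1
  have hb1 : Adm (ι b : Fin 6 → F) := by
    have := hadm 0
    rwa [zero_smul, zero_add] at this
  have hadm1 : Adm (ι (ea F) + ι b : Fin 6 → F) := by
    have := hadm 1
    rwa [one_smul] at this
  have hline := L.line (ι (ea F)) (ι b) ha.ne hb1.ne ha.iso hb1.iso (by
      have := herm_ι_left (m := 4) (ea F) (ι b)
      rw [top_ι, hab] at this
      exact this) (by
      rintro ⟨k, hk⟩
      have h1 := congrArg (top (m := 4)) hk
      rw [top_ι, Levi.top_smul, top_ι] at h1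
      have := congrFun h1 2
      simp [ea, hb] at this) ω hω
  have hεz : f ⟨lift (ι (ea F)), haP⟩ ^ 5 = 1 := by
    have h1 : (⟨lift (ι (ea F)), haP⟩ * ⟨lift (ι b), lift_mem L hb1.ne hb1.iso hb1.perp⟩ *
        ⟨lift (ι (ea F) + ι b), lift_mem L hadm1.ne hadm1.iso hadm1.perp⟩ *
        ⟨lift (ω • ι (ea F) + ι b), lift_mem L (hadm ω).ne (hadm ω).iso (hadm ω).perp⟩ *
        ⟨lift (ω ^ 2 • ι (ea F) + ι b), lift_mem L (hadm (ω ^ 2)).ne (hadm (ω ^ 2)).iso
          (hadm (ω ^ 2)).perp⟩ : P0 lift) = ⟨z, Rad_le L (z_mem_Rad L H)⟩ := Subtype.ext hline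
    have h2 := congrArg f h1
    rw [map_mul, map_mul, map_mul, map_mul, hconst _ hb1, hconst _ hadm1, hconst _ (hadm ω),
      hconst _ (hadm (ω ^ 2)), hR z (z_mem_Rad L H)] at h2
    rw [← h2, pow_succ, pow_succ, pow_succ, pow_two]
  have hε2 : f ⟨lift (ι (ea F)), haP⟩ ^ 2 = 1 := by
    rw [← map_pow]
    have : (⟨lift (ι (ea F)), haP⟩ : P0 lift) ^ 2 = 1 := by
      rw [pow_two]
      exact Subtype.ext (sq_adm L ha)
    rw [this, map_one]
  have hε : f ⟨lift (ι (ea F)), haP⟩ = 1 := by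
    have h1 : f ⟨lift (ι (ea F)), haP⟩ ^ 5 = (f ⟨lift (ι (ea F)), haP⟩ ^ 2) ^ 2 *
        f ⟨lift (ι (ea F)), haP⟩ := by
      rw [← pow_mul, ← pow_succ]
    rw [hεz, hε2, one_pow, one_mul] at h1
    exact h1.symm
  rw [eq_top_iff]
  rintro ⟨c, hc⟩ -
  rw [← hfker, MonoidHom.mem_ker]
  have hc' := hc
  rw [P0_eq_closure L] at hc'
  have key : ∀ c ∈ Subgroup.closure (gens lift), ∀ hc : c ∈ P0 lift, f ⟨c, hc⟩ = 1 := by
    intro c hc
    refine Subgroup.closure_induction (p := fun c _ => ∀ hc : c ∈ P0 lift, f ⟨c, hc⟩ = 1)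
      ?_ ?_ ?_ ?_ hc
    · rintro x (rfl | ⟨w, hw, rfl⟩) hx
      · exact hR _ (u_mem_Rad L H)
      · rw [hconst w hw, hε]
    · intro _
      exact map_one f
    · intro a b ha hb ha' hb' hx
      rw [← P0_eq_closure L] at ha hb
      have h1 : (⟨a * b, hx⟩ : P0 lift) = ⟨a, ha⟩ * ⟨b, hb⟩ := rfl
      rw [h1, map_mul, ha' ha, hb' hb, mul_one]
    · intro a ha ha' hx
      rw [← P0_eq_closure L] at ha
      have h1 : (⟨a⁻¹, hx⟩ : P0 lift) = (⟨a, ha⟩)⁻¹ := rfl
      rw [h1, map_inv, ha' ha, inv_one]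
  exact key c hc' hc

end Cfsg.Agent.KFacts.FiTT.Radical
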